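import Cfsg.Agent.Lib.NilBlock.Form
import Cfsg.Agent.Lib.Star.Star
import Mathlib

/-!
# A class function of the maximal pair as a coefficient function on Brauer elements
-/

set_option autoImplicit false
set_option linter.unusedSectionVars false

namespace Cfsg.Agent.Lib.NilBlock

open Cfsg
open Cfsg.Agent.Lib
open Cfsg.Agent.Lib.BrauerPairs
open Cfsg.Agent.Lib.Blocks (localRing)
open scoped ComplexConjugate

universe u

attribute [local instance] Classical.propDecidable

variable {G : Type u} [Group G] [Fintype G] {p : ℕ} {M : Ideal AlgInt} [Fact p.Prime] [M.IsPrime]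
  {B : Set (IrrCharacter G)} {b : BrauerPairIdx G}

/-- The value of `θ` at the element below `b` conjugate to the Brauer element `(v, a)`. -/
noncomputable def coef (p : ℕ) (M : Ideal AlgInt) (b : BrauerPairIdx G) (θ : b.1 → ℂ) (v : G)
    (a : BrauerPairIdx G) : ℂ :=
  if h : ∃ g : G, ∃ w : b.1, g * (w : G) * g⁻¹ = v ∧ conjPair g (bu p M b w) = a
  then θ h.choose_spec.choose else 0

variable (hM : IsPModular p M) (hmax : IsMaximalBrauerPair p M B b.1 b.2)
  (hnil : IsNilpotentBlock p M B) {θ : b.1 → ℂ}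

include hM hmax hnil in
theorem coef_eq (hθ : IsClassFunction b.1 θ) {v g : G} {a : BrauerPairIdx G} (w : b.1)
    (hg : g * (w : G) * g⁻¹ = v) (ha : conjPair g (bu p M b w) = a) :
    coef p M b θ v a = θ w := by
  have h : ∃ g : G, ∃ w : b.1, g * (w : G) * g⁻¹ = v ∧ conjPair g (bu p M b w) = a :=
    ⟨g, w, hg, ha⟩
  rw [coef, dif_pos h]
  obtain ⟨hg', ha'⟩ := h.choose_spec.choose_spec
  generalize h.choose = g', h.choose_spec.choose = w' at hg' ha' ⊢
  obtain ⟨x, hx, hxw⟩ := exists_mem_conj hM hmax hnil (g := g⁻¹ * g') w'.2 w.2 (by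
    calc g⁻¹ * g' * (w' : G) * (g⁻¹ * g')⁻¹ = g⁻¹ * (g' * (w' : G) * g'⁻¹) * g := by group
      _ = g⁻¹ * (g * (w : G) * g⁻¹) * g := by rw [hg', hg]
      _ = (w : G) := by group) (by
    rw [← conjPair_mul (isBrauerPairOf_bu hM hmax w'.2).1.2, ha', ← ha,
      conjPair_inv_cancel (isBrauerPairOf_bu hM hmax w.2).1.2])
  rw [← hθ w' ⟨x, hx⟩]
  exact congrArg θ (Subtype.ext hxw)

include hM hmax hnil in
theorem coef_self (hθ : IsClassFunction b.1 θ) (w : b.1) :
    coef p M b θ w (bu p M b w) = θ w := by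
  refine coef_eq hM hmax hnil hθ (g := 1) w (by group) ?_
  rw [conjPair_bu hM hmax w.2 (one_mem _)]
  simp

include hM hmax in
theorem isBrauerPairOf_of_coef_ne_zero {v : G} {a : BrauerPairIdx G}
    (h : coef p M b θ v a ≠ 0) : IsBrauerPairOf p M B a.1 a.2 := by
  by_cases h' : ∃ g : G, ∃ w : b.1, g * (w : G) * g⁻¹ = v ∧ conjPair g (bu p M b w) = a
  · obtain ⟨g, w, -, rfl⟩ := h'
    exact isBrauerPairOf_conj (isBrauerPairOf_bu hM hmax w.2) g
  · exact absurd (dif_neg h') h

include hM hmax hnil in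
theorem coef_conj (hθ : IsClassFunction b.1 θ) (x v : G) {a : BrauerPairIdx G}
    (ha : IsPBlock M a.2) :
    coef p M b θ (x * v * x⁻¹) (conjPair x a) = coef p M b θ v a := by
  by_cases h : ∃ g : G, ∃ w : b.1, g * (w : G) * g⁻¹ = v ∧ conjPair g (bu p M b w) = a
  · obtain ⟨g, w, hg, hga⟩ := h
    rw [coef_eq hM hmax hnil hθ w hg hga,
      coef_eq hM hmax hnil hθ (g := x * g) w (by rw [← hg]; group) (by
        rw [← conjPair_mul (isBrauerPairOf_bu hM hmax w.2).1.2, hga])]
  · rw [coef, coef, dif_neg h, dif_neg]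
    rintro ⟨g, w, hg, hga⟩
    refine h ⟨x⁻¹ * g, w, ?_, ?_⟩
    · calc x⁻¹ * g * (w : G) * (x⁻¹ * g)⁻¹ = x⁻¹ * (g * (w : G) * g⁻¹) * x := by group
        _ = v := by rw [hg]; group
    · rw [← conjPair_mul (isBrauerPairOf_bu hM hmax w.2).1.2, hga, conjPair_inv_cancel ha]

include hM hmax hnil in
theorem maps_coef (hθ : IsCharacter b.1 θ) (σ : GaloisPos.QBar →ₐ[ℚ] ℂ) {k : ℕ}
    (hk : k.Coprime (Nat.card G))
    (hkK : ∀ (K : Subgroup G) (η : K → ℂ), IsCharacter K η → ∀ g : K,
      Star.Maps σ (η g) (η (g ^ k)))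
    (v : G) (a : BrauerPairIdx G) :
    Star.Maps σ (coef p M b θ v a) (coef p M b θ (v ^ k) a) := by
  have hθcf := Chars.isClassFunction_of_isCharacter hθ
  have hord : ∀ z : G, (orderOf z).Coprime k := fun z =>
    (Nat.Coprime.coprime_dvd_right (orderOf_dvd_natCard z) hk).symm
  have hconj : ∀ (g z : G) (n : ℕ), (g * z * g⁻¹) ^ n = g * z ^ n * g⁻¹ := fun g z n =>
    conj_pow
  by_cases h : ∃ g : G, ∃ w : b.1, g * (w : G) * g⁻¹ = v ∧ conjPair g (bu p M b w) = a
  · obtain ⟨g, w, hg, hga⟩ := h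
    rw [coef_eq hM hmax hnil hθcf w hg hga,
      coef_eq hM hmax hnil hθcf (g := g) (w ^ k) (by rw [← hg, hconj]; rfl) (by
        rw [SubmonoidClass.coe_pow, bu_pow hM hmax.1.1 w.2 (hord _), hga])]
    exact hkK b.1 θ hθ w
  · rw [coef, coef, dif_neg h, dif_neg]
    · exact Star.maps_zero
    rintro ⟨g, w, hg, hga⟩
    obtain ⟨m, hm⟩ := exists_pow_eq_self_of_coprime (hord v).symm
    refine h ⟨g, w ^ m, by rw [SubmonoidClass.coe_pow, ← hconj, hg, hm], ?_⟩
    rw [SubmonoidClass.coe_pow, bu_pow hM hmax.1.1 w.2 ?_, hga]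
    obtain ⟨j, hj⟩ := exists_orderOf_eq hM hmax w.2
    have hwv : orderOf (w : G) = orderOf v := by
      rw [← ((hord v).orderOf_pow), ← hg]
      exact ((MulAut.conj g).orderOf_eq (w : G)).symm
    have h1 : orderOf (v ^ (k * m)) = orderOf v := by rw [pow_mul, hm]
    rw [hwv]
    rcases Nat.eq_zero_or_pos (k * m) with h0 | h0
    · rw [h0, pow_zero, orderOf_one] at h1
      rw [← h1]
      exact Nat.coprime_one_left _
    · rw [orderOf_pow' _ h0.ne'] at h1
      exact Nat.Coprime.coprime_dvd_right (dvd_mul_left m k)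
        ((Nat.div_eq_self.1 h1).resolve_left (orderOf_pos v).ne')

include hM hmax hnil in
theorem isGeneralizedCharacter_star (hθ : IsCharacter b.1 θ) {χ : G → ℂ}
    (hχ : IsCharacter G χ) :
    IsGeneralizedCharacter G (Star.starFun M p (coef p M b θ) χ) := by
  have hθcf := Chars.isClassFunction_of_isCharacter hθ
  refine Star.isGeneralizedCharacter_starFun hM (fun v a => ?_)
    (fun x u a _ ha => coef_conj hM hmax hnil hθcf x u ha)
    (fun σ k hk hkK u a _ _ => maps_coef hM hmax hnil hθ σ hk hkK u a) (fun d hd => ?_) hχ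
  · rw [coef]
    split_ifs
    · exact Chars.isCharacter_isIntegral hθ _
    · exact isIntegral_zero
  · by_cases hdB : IsBrauerPairOf p M B d.1 d.2
    · obtain ⟨x, hx⟩ := exists_conj_pairLE_max (a := b) (b := d) hM hmax hdB
      have hmap : ∀ u ∈ d.1, x * u * x⁻¹ ∈ b.1 := fun u hu =>
        pairLE_fst_le hx (Subgroup.mem_map_of_mem (MulAut.conj x).toMonoidHom hu)
      let φ : d.1 →* b.1 :=
        { toFun := fun u => ⟨x * u * x⁻¹, hmap u u.2⟩
          map_one' := Subtype.ext (by simp)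
          map_mul' := fun u v => Subtype.ext (by simp [mul_assoc]) }
      refine ⟨fun u => θ (φ u), Star.spn_comp φ (Star.spn_mono (Star.intRing_le_localRing M)
        (Star.spn_of_isCharacter hθ)), fun u a ha hle => ?_⟩
      rw [← coef_conj hM hmax hnil hθcf x u (IsPair.of_pairLE hd hle).2]
      have hfst : (conjPair x a).1 = Subgroup.zpowers (x * (u : G) * x⁻¹) := by
        rw [conjPair_fst, ha, MonoidHom.map_zpowers]
        rfl
      rw [eq_bu hM hmax.1.1 (hmap u u.2) ((pairLE_conj hle x).trans hx) hfst]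
      exact (coef_self hM hmax hnil hθcf (φ u)).symm
    · refine ⟨fun _ => 0, Star.spn_zero, fun u a _ hle => ?_⟩
      symm
      by_contra hne
      exact hdB ((BrauerMap.isBrauerPairOf_iff_of_subpairLE hM hle hd hmax.1.2.1).2
        (isBrauerPairOf_of_coef_ne_zero hM hmax hne))

include hM hmax hnil in
/-- The inner products of a star product. -/
theorem classInner_star (hθ : IsClassFunction b.1 θ) {χ : IrrCharacter G} (hχ : χ ∈ B)
    (ψ : IrrCharacter G) :
    (Nat.card b.1 : ℂ) *
        classInner (Star.starFun M p (coef p M b θ) (χ : G → ℂ)) (ψ : G → ℂ) =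
      ∑ w : b.1, θ w * wt p M b w χ ψ := by
  have h := sum_brauerElements hM hmax hnil (fun v a => coef p M b θ v a * con p v a χ ψ)
    (fun x v a _ ha => by rw [coef_conj hM hmax hnil hθ x v ha, con_conj])
    fun v hv a ha hno => by
      obtain ⟨ha1, ha2⟩ := Star.mem_pairsOn.1 ha
      rw [con_eq_zero hM (mem_pElems.1 hv) ha1 ha2 hmax.1.2.1 hno hχ ψ, mul_zero]
  have h' : ∑ v ∈ pElems p G, (Nat.card (Subgroup.centralizer (Subgroup.zpowers v : Set G)) : ℂ) *
      ∑ a ∈ Star.pairsOn M (Subgroup.zpowers v), coef p M b θ v a * con p v a χ ψ =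
      (Nat.card G : ℂ) * classInner (Star.starFun M p (coef p M b θ) (χ : G → ℂ)) (ψ : G → ℂ) := by
    rw [inner_eq_sum_sections hM hmax]
    refine Finset.sum_congr rfl fun v hv => ?_
    have hstar : ∀ c : Subgroup.centralizer (Subgroup.zpowers v : Set G), ¬ p ∣ orderOf c →
        Star.starFun M p (coef p M b θ) (χ : G → ℂ) (v * (c : G)) =
          ∑ a ∈ Star.pairsOn M (Subgroup.zpowers v),
            coef p M b θ v a * Star.part a (χ : G → ℂ) (v * (c : G)) := fun c hc =>
      Star.starFun_apply (Blocks.Sections.isPPart_mul p (mem_pElems.1 hv)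
        (Subgroup.mem_centralizer_iff.1 c.2 v (Subgroup.mem_zpowers v))
        (by rwa [Subgroup.orderOf_coe]))
    rw [Finset.mul_sum]
    calc _ = ∑ a ∈ Star.pairsOn M (Subgroup.zpowers v), coef p M b θ v a *
          ∑ c : Subgroup.centralizer (Subgroup.zpowers v : Set G),
            if p ∣ orderOf c then 0 else Star.part a (χ : G → ℂ) (v * (c : G)) *
              conj ((ψ : G → ℂ) (v * (c : G))) := by
          refine Finset.sum_congr rfl fun a ha => ?_
          obtain ⟨Q, f⟩ := a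
          obtain ⟨rfl, ha2⟩ := Star.mem_pairsOn.1 ha
          rw [sum_part_mul_conj hM (a := ⟨Subgroup.zpowers v, f⟩) rfl ha2]
          ring
      _ = _ := by
          simp only [Finset.mul_sum]
          rw [Finset.sum_comm]
          refine Finset.sum_congr rfl fun c _ => ?_
          by_cases hc : p ∣ orderOf c
          · simp [hc]
          · simp only [if_neg hc, hstar c hc, Finset.sum_mul, mul_assoc]
  rw [h'] at h
  refine mul_left_cancel₀ (Chars.natCard_ne_zero (G := G)) ?_
  rw [mul_left_comm]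
  refine h.trans (congrArg _ (Finset.sum_congr rfl fun w _ => ?_))
  rw [coef_self hM hmax hnil hθ, wt]
  ring

end Cfsg.Agent.Lib.NilBlock
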