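import Cfsg.Agent.Lib.Contrib.Cyclotomic
import Mathlib

/-!
# Cyclic functions of mean square one
-/

set_option autoImplicit false

namespace Cfsg.Agent.Lib.NilBlock

open Cfsg Polynomial
open Cfsg.Agent.Lib.Contrib
open scoped ComplexConjugate

variable {p k : ℕ} {ζ : ℂ}

/-- A cyclic function at a root of unity is one at any root of a multiple order. -/
theorem isCyc_of_pow {η : ℂ} {F : ℕ → ℂ} {i : ℕ} (h : IsCyc ζ F) (hη : η ^ i = ζ) :
    IsCyc η F := by
  obtain ⟨P, hP⟩ := h
  refine ⟨P.comp (X ^ i), fun t => ?_⟩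
  rw [hP t, aeval_comp, map_pow, aeval_X, ← pow_mul, mul_comm, pow_mul, hη]

/-- The least possible spread is taken only with one exceptional value. -/
theorem eq_add_ite_of_spread (d : ℕ → ℤ) {x y : ℕ} (hx : x < p) (hy : y < p) (hne : d x ≠ d y)
    (hle : spread p d ≤ (p : ℤ) - 1) :
    ∃ (c : ℤ) (e : ℤ) (j : ℕ), j < p ∧ (e = 1 ∨ e = -1) ∧
      ∀ a < p, d a = c + if a = j then e else 0 := by
  classical
  set s := Finset.range p with hs
  have hxy : x ≠ y := fun e => hne (e ▸ rfl)
  have one_le : ∀ z, (1 : ℤ) ≤ (d x - z) ^ 2 + (d y - z) ^ 2 := fun z => by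
    by_contra h'
    have h1 : (d x - z) ^ 2 = 0 := by nlinarith [sq_nonneg (d x - z), sq_nonneg (d y - z)]
    have h2 : (d y - z) ^ 2 = 0 := by nlinarith [sq_nonneg (d x - z), sq_nonneg (d y - z)]
    rw [sq_eq_zero_iff, sub_eq_zero] at h1 h2
    exact hne (h1.trans h2.symm)
  have h2 := two_mul_spread p d
  rw [← hs] at h2
  have hsub : ({x, y} : Finset ℕ) ⊆ s := by
    intro z hz
    rw [Finset.mem_insert, Finset.mem_singleton] at hz
    exact Finset.mem_range.2 (hz.elim (fun e => e ▸ hx) (fun e => e ▸ hy))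
  rw [← Finset.sum_sdiff hsub, Finset.sum_pair hxy] at h2
  have hcol : (p : ℤ) ≤ ∑ b ∈ s, ((d x - d b) ^ 2 + (d y - d b) ^ 2) := by
    calc (p : ℤ) = ∑ _b ∈ s, (1 : ℤ) := by simp [hs]
      _ ≤ _ := Finset.sum_le_sum fun b _ => one_le (d b)
  have hrest : ∀ a ∈ s \ {x, y}, (1 : ℤ) ≤ ∑ b ∈ s, (d a - d b) ^ 2 := fun a _ => by
    refine le_trans ?_ (Finset.sum_le_sum_of_subset_of_nonneg hsub fun b _ _ => sq_nonneg _)
    rw [Finset.sum_pair hxy]
    calc (1 : ℤ) ≤ (d x - d a) ^ 2 + (d y - d a) ^ 2 := one_le (d a)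
      _ = _ := by ring
  have hcard : ((s \ {x, y}).card : ℤ) = (p : ℤ) - 2 := by
    rw [Finset.card_sdiff_of_subset hsub, Finset.card_pair hxy, hs, Finset.card_range,
      Nat.cast_sub (by omega)]
    rfl
  have hrest' := Finset.sum_le_sum hrest
  rw [Finset.sum_const, nsmul_eq_mul, mul_one, hcard] at hrest'
  rw [Finset.sum_add_distrib] at hcol
  -- all the estimates are sharp
  have hcol' : ∑ b ∈ s, ((d x - d b) ^ 2 + (d y - d b) ^ 2 - 1) = 0 := by
    rw [Finset.sum_sub_distrib, Finset.sum_add_distrib]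
    simp only [Finset.sum_const, nsmul_eq_mul, mul_one, hs, Finset.card_range] at *
    linarith
  have hval : ∀ b < p, (d x - d b) ^ 2 + (d y - d b) ^ 2 = 1 := fun b hb => by
    have := (Finset.sum_eq_zero_iff_of_nonneg fun b _ => sub_nonneg.2 (one_le (d b))).1 hcol' b
      (Finset.mem_range.2 hb)
    linarith
  have htwo : ∀ b < p, d b = d x ∨ d b = d y := fun b hb => by
    have hb' := hval b hb
    by_contra hno
    push Not at hno
    have h1 : 1 ≤ (d x - d b) ^ 2 := by
      have := sq_pos_of_ne_zero (sub_ne_zero.2 (Ne.symm hno.1) : d x - d b ≠ 0)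
      omega
    have h2 : 1 ≤ (d y - d b) ^ 2 := by
      have := sq_pos_of_ne_zero (sub_ne_zero.2 (Ne.symm hno.2) : d y - d b ≠ 0)
      omega
    linarith
  have hD : (d y - d x) ^ 2 = 1 := by simpa using hval x hx
  set e := d y - d x with he
  have he1 : e = 1 ∨ e = -1 := sq_eq_one_iff.1 hD
  set S := (Finset.range p).filter fun b => d b = d y with hS
  set m := S.card with hm
  have hmp : m ≤ p := by simpa [hm, hS] using Finset.card_filter_le (Finset.range p) fun b => d b = d y
  have hdb : ∀ b ∈ Finset.range p, d b = d x + if b ∈ S then e else 0 := fun b hb => by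
    by_cases hbS : b ∈ S
    · rw [if_pos hbS, (Finset.mem_filter.1 hbS).2, he]; ring
    · rw [if_neg hbS, add_zero]
      exact (htwo b (Finset.mem_range.1 hb)).resolve_right fun h =>
        hbS (Finset.mem_filter.2 ⟨hb, h⟩)
  have hsp : spread p d = (m : ℤ) * ((p : ℤ) - m) := by
    have hfil : (Finset.range p).filter (fun b => b ∈ S) = S := by
      ext b; simp [hS]
    simp only [spread]
    rw [Finset.sum_congr rfl fun b hb => by rw [hdb b hb],
      Finset.sum_congr (s₁ := Finset.range p) rfl fun b hb => hdb b hb]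
    simp only [add_sq, Finset.sum_add_distrib, mul_ite, mul_zero, ite_pow, zero_pow two_ne_zero,
      hD, Finset.sum_ite, hfil, Finset.sum_const_zero, add_zero, Finset.sum_const, nsmul_eq_mul,
      Finset.card_range, mul_one, ← hm]
    linear_combination (-(m : ℤ) ^ 2) * hD
  have hm1 : 1 ≤ m := Finset.card_pos.2 ⟨y, Finset.mem_filter.2 ⟨Finset.mem_range.2 hy, rfl⟩⟩
  have hm2 : m < p := by
    refine lt_of_lt_of_eq (Finset.card_lt_card (Finset.filter_ssubset.2
      ⟨x, Finset.mem_range.2 hx, hne⟩)) (Finset.card_range p)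
  have hle' : ((m : ℤ) - 1) * ((p : ℤ) - m - 1) ≤ 0 := by
    rw [hsp] at hle
    linear_combination hle
  rcases eq_or_lt_of_le hm1 with h1 | h1
  · obtain ⟨j, hj⟩ := Finset.card_eq_one.1 h1.symm
    have hjS : j ∈ S := hj ▸ Finset.mem_singleton_self j
    refine ⟨d x, e, j, Finset.mem_range.1 (Finset.mem_filter.1 hjS).1, he1, fun a ha => ?_⟩
    rw [hdb a (Finset.mem_range.2 ha), hj]
    simp
  · have hm3 : m + 1 = p := by
      by_contra hno
      have h3 : (1 : ℤ) ≤ (m : ℤ) - 1 := by omega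
      have h4 : (1 : ℤ) ≤ (p : ℤ) - m - 1 := by omega
      nlinarith
    obtain ⟨j, hj⟩ : ∃ j, Finset.range p \ S = {j} := by
      refine Finset.card_eq_one.1 ?_
      rw [Finset.card_sdiff_of_subset (hS ▸ Finset.filter_subset _ _ : S ⊆ Finset.range p),
        Finset.card_range, ← hm]
      omega
    have hjS : j ∈ Finset.range p \ S := hj ▸ Finset.mem_singleton_self j
    refine ⟨d y, -e, j, Finset.mem_range.1 (Finset.mem_sdiff.1 hjS).1,
      he1.symm.imp (by intro h; simp [h]) (by intro h; simp [h]), fun a ha => ?_⟩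
    rw [hdb a (Finset.mem_range.2 ha)]
    by_cases haj : a = j
    · subst haj
      rw [if_neg (Finset.mem_sdiff.1 hjS).2, if_pos rfl, he]
      ring
    · rw [if_neg haj, if_pos (by
        by_contra hn
        exact haj (Finset.mem_singleton.1 (hj ▸ Finset.mem_sdiff.2 ⟨Finset.mem_range.2 ha, hn⟩))), he]
      ring

/-- A cyclic function of the least possible mean square has values of absolute value one. -/
theorem norm_eq_one_of_sum_le (hp : p.Prime) (hk : 0 < k) (hζ : IsPrimitiveRoot ζ (p ^ k))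
    {F : ℕ → ℂ} (h : IsCyc ζ F) (h1 : F 1 ≠ 0)
    (hle : ∑ t ∈ primResidues p k, ‖F t‖ ^ 2 ≤ ((primResidues p k).card : ℝ))
    {t : ℕ} (ht : ¬ p ∣ t) : ‖F t‖ = 1 := by
  classical
  obtain ⟨c, hc⟩ := h.exists_coeff hp hk hζ
  set q := p ^ (k - 1) with hq
  rw [sum_norm_sq hc hp hk hζ, card_primResidues hp hk, Nat.cast_mul, Nat.cast_pow] at hle
  have hle' : ∑ r ∈ Finset.range q, spread p (c r) ≤ (p : ℤ) - 1 := by
    have h2 := le_of_mul_le_mul_left hle (by have := hp.pos; positivity)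
    have : (((p - 1 : ℕ) : ℤ) : ℝ) = ((p - 1 : ℕ) : ℝ) := by norm_cast
    rw [← this, Int.cast_le] at h2
    have := hp.one_lt
    rw [hq]
    omega
  obtain ⟨r, hr, x, hx, y, hy, hne⟩ : ∃ r < q, ∃ x < p, ∃ y < p, c r x ≠ c r y := by
    by_contra hno
    push Not at hno
    exact h1 (apply_eq_zero_of_const hc hp hk hζ hp.not_dvd_one hno)
  have hr1 := sub_one_le_spread p (c r) hx hy hne
  obtain ⟨b, e, j, hj, he, hd⟩ := eq_add_ite_of_spread (c r) hx hy hne
    ((Finset.single_le_sum (fun i _ => spread_nonneg p (c i)) (Finset.mem_range.2 hr)).trans hle')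
  have hothers : ∀ r' < q, r' ≠ r → ∀ x' < p, ∀ y' < p, c r' x' = c r' y' := by
    intro r' hr' hrr x' hx' y' hy'
    by_contra hne'
    have h3 : spread p (c r) + spread p (c r') ≤ ∑ i ∈ Finset.range q, spread p (c i) :=
      Finset.add_le_sum (fun i _ => spread_nonneg p (c i)) (Finset.mem_range.2 hr)
        (Finset.mem_range.2 hr') hrr.symm
    have := sub_one_le_spread p (c r') hx' hy' hne'
    have := hp.one_lt
    omega
  set c₀ : ℕ → ℕ → ℤ := fun r' j' => c r' j' - if r' = r ∧ j' = j then e else 0 with hc₀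
  set F₀ : ℕ → ℂ := fun t => ∑ r' ∈ Finset.range q, ∑ j' ∈ Finset.range p,
    (c₀ r' j' : ℂ) * (ζ ^ (r' + q * j')) ^ t with hF₀
  have hzero : F₀ t = 0 := apply_eq_zero_of_const (c := c₀) (F := F₀) (fun _ => rfl) hp hk hζ ht
    fun r' hr' x' hx' y' hy' => by
      by_cases hrr : r' = r
      · subst hrr
        simp only [hc₀, true_and, hd x' hx', hd y' hy']
        split_ifs <;> ring
      · simp only [hc₀, hrr, false_and, if_false, sub_zero]
        exact hothers r' hr' hrr x' hx' y' hy'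
  have hF : F t = F₀ t + (e : ℂ) * (ζ ^ (r + q * j)) ^ t := by
    rw [hc t, hF₀]
    simp only [hc₀, Int.cast_sub, Int.cast_ite, Int.cast_zero, sub_mul, Finset.sum_sub_distrib]
    rw [Finset.sum_eq_single (f := fun r' => ∑ j' ∈ Finset.range p,
        (if r' = r ∧ j' = j then (e : ℂ) else 0) * (ζ ^ (r' + q * j')) ^ t) r
        (fun r' _ hrr => Finset.sum_eq_zero fun j' _ => by simp [hrr])
        (fun hh => absurd (Finset.mem_range.2 hr) hh),
      Finset.sum_eq_single (f := fun j' => (if r = r ∧ j' = j then (e : ℂ) else 0) *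
        (ζ ^ (r + q * j')) ^ t) j
        (fun j' _ hjj => by simp [hjj]) (fun hh => absurd (Finset.mem_range.2 hj) hh)]
    simp
  rw [hF, hzero, zero_add, norm_mul, norm_pow, norm_pow, hζ.norm'_eq_one (pow_ne_zero _ hp.ne_zero)]
  rcases he with rfl | rfl <;> simp

end Cfsg.Agent.Lib.NilBlock
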