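import Cfsg.Agent.Lib.NilBlock.Counting
import Cfsg.Agent.Lib.NilBlock.Unit
import Cfsg.Agent.Lib.Contrib.Family
import Mathlib

/-!
# The hermitian forms of the elements of the maximal pair
-/

set_option autoImplicit false
set_option linter.unusedSectionVars false

namespace Cfsg.Agent.Lib.NilBlock

open Cfsg
open Cfsg.Agent.Lib
open Cfsg.Agent.Lib.BrauerPairs
open Cfsg.Agent.Lib.BrauerFeit (regCoef)
open scoped ComplexConjugate

universe u

attribute [local instance] Classical.propDecidable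

variable {G : Type u} [Group G] [Fintype G] {p : ℕ} {M : Ideal AlgInt} [Fact p.Prime] [M.IsPrime]
  {B : Set (IrrCharacter G)} {b : BrauerPairIdx G}

/-- The scaled contribution of `w` in the pair below `b`. -/
noncomputable def wt (p : ℕ) (M : Ideal AlgInt) (b : BrauerPairIdx G) (w : G)
    (χ ψ : IrrCharacter G) : ℂ :=
  (Nat.card (b.1 ⊓ Subgroup.centralizer ({w} : Set G) : Subgroup G) : ℂ) *
    con p w (bu p M b w) χ ψ

theorem conj_wt (w : G) (χ ψ : IrrCharacter G) :
    conj (wt p M b w χ ψ) = wt p M b w ψ χ := by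
  simp only [wt, con, map_mul, Complex.conj_natCast, Contrib.contrib_conj]

theorem exists_nonneg_wt_self (w : G) (χ : IrrCharacter G) :
    ∃ r : ℝ, 0 ≤ r ∧ wt p M b w χ χ = (r : ℂ) := by
  refine ⟨(Nat.card (b.1 ⊓ Subgroup.centralizer ({w} : Set G) : Subgroup G) : ℝ) *
    ∑ ξ ∈ (bu p M b w).2.toFinset, Complex.normSq (Contrib.secCoef p w χ ξ),
    mul_nonneg (Nat.cast_nonneg _) (Finset.sum_nonneg fun _ _ => Complex.normSq_nonneg _), ?_⟩
  simp only [wt, con, Contrib.contrib, Complex.mul_conj]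
  push_cast
  rfl

variable (hM : IsPModular p M) (hmax : IsMaximalBrauerPair p M B b.1 b.2)
  (hnil : IsNilpotentBlock p M B)

include hM hmax in
theorem card_eq : Nat.card b.1 = p ^ blockDefect p B :=
  BrauerFeit.card_defectGroup hM hmax.1.2.1 (isDefectGroup_of_isMaximal hM hmax)

include hM hmax in
theorem inner_eq_sum_sections (f : G → ℂ) (ψ : IrrCharacter G) :
    (Nat.card G : ℂ) * classInner f (ψ : G → ℂ) = ∑ v ∈ pElems p G,
      ∑ c : Subgroup.centralizer (Subgroup.zpowers v : Set G),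
        if p ∣ orderOf c then 0 else f (v * (c : G)) * conj ((ψ : G → ℂ) (v * (c : G))) := by
  rw [classInner, ← mul_assoc, mul_inv_cancel₀ Chars.natCard_ne_zero, one_mul,
    sum_eq_sum_sections (p := p) fun g => f g * conj ((ψ : G → ℂ) g)]

include hM hmax hnil in
/-- The forms add up to the identity. -/
theorem sum_wt {χ : IrrCharacter G} (hχ : χ ∈ B) (ψ : IrrCharacter G) :
    ∑ w : b.1, wt p M b w χ ψ = if χ = ψ then (Nat.card b.1 : ℂ) else 0 := by
  have h := sum_brauerElements hM hmax hnil (fun v a => con p v a χ ψ)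
    (fun x v a _ _ => con_conj v x a χ ψ) fun v hv a ha hno => by
      obtain ⟨ha1, ha2⟩ := Star.mem_pairsOn.1 ha
      exact con_eq_zero hM (mem_pElems.1 hv) ha1 ha2 hmax.1.2.1 hno hχ ψ
  have hcard : (Nat.card G : ℂ) ≠ 0 := Chars.natCard_ne_zero
  have h' : ∑ v ∈ pElems p G, (Nat.card (Subgroup.centralizer (Subgroup.zpowers v : Set G)) : ℂ) *
      ∑ a ∈ Star.pairsOn M (Subgroup.zpowers v), con p v a χ ψ =
      (Nat.card G : ℂ) * if χ = ψ then 1 else 0 := by
    rw [← Chars.classInner_irr, inner_eq_sum_sections hM hmax]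
    refine Finset.sum_congr rfl fun v _ => ?_
    rw [sum_con_pairsOn, ← mul_assoc, mul_inv_cancel₀ Chars.natCard_ne_zero, one_mul]
  rw [h'] at h
  refine mul_left_cancel₀ hcard (h.symm.trans ?_)
  split_ifs <;> ring

include hM hmax in
/-- The form of a central element. -/
theorem wt_of_mem_center {w : G} (hw : w ∈ b.1) (hc : w ∈ Subgroup.center G) {χ : IrrCharacter G}
    (hχ : χ ∈ B) (ψ : IrrCharacter G) :
    wt p M b w χ ψ = (χ : G → ℂ) w / (χ : G → ℂ) 1 * conj ((ψ : G → ℂ) w / (ψ : G → ℂ) 1) *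
      ((Nat.card b.1 : ℂ) * regCoef p χ ψ) := by
  have htop : Subgroup.centralizer ({w} : Set G) = ⊤ := (Subgroup.eq_top_iff' _).2 fun g =>
    Subgroup.mem_centralizer_singleton_iff.2 (Subgroup.mem_center_iff.1 hc g)
  have hsum : ∑ a ∈ Star.pairsOn M (Subgroup.zpowers w), con p w a χ ψ =
      con p w (bu p M b w) χ ψ := by
    refine Finset.sum_eq_single _ (fun a ha hne => ?_) (fun h => absurd
      (Star.mem_pairsOn.2 ⟨bu_fst w, (isBrauerPairOf_bu hM hmax hw).1.2⟩) h)
    obtain ⟨ha1, ha2⟩ := Star.mem_pairsOn.1 ha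
    refine con_eq_zero hM (exists_orderOf_eq hM hmax hw) ha1 ha2 hmax.1.2.1 (fun hB' => hne ?_) hχ ψ
    obtain ⟨g, u, hu, huw, rfl⟩ := exists_conj_bu hM hmax ha1 hB'
    obtain rfl : u = w := by
      have h1 := Subgroup.mem_center_iff.1 hc g⁻¹
      rw [show u = g⁻¹ * w * g by rw [huw]; group, h1]
      group
    refine core_le_pairStab (isBrauerPairOf_bu hM hmax hu).1.2 (Subgroup.mem_sup_right ?_)
    rw [centralizer_bu, htop]
    exact Subgroup.mem_top g
  rw [wt, ← hsum, sum_con_pairsOn, centralizer_zpowers, htop, Subgroup.card_top,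
    show (b.1 ⊓ (⊤ : Subgroup G)) = b.1 from inf_top_eq _]
  have hval : ∀ (φ : IrrCharacter G) (g : G), (φ : G → ℂ) (w * g) =
      (φ : G → ℂ) w / (φ : G → ℂ) 1 * (φ : G → ℂ) g := fun φ g => by
    rw [← Subgroup.mem_center_iff.1 hc g, Blocks.CentralKernel.irr_mul_central φ hc]
    ring
  simp only [hval, map_mul]
  rw [regCoef, classInner]
  simp only [Finset.mul_sum]
  refine Fintype.sum_equiv Subgroup.topEquiv.toEquiv _ _ fun c => ?_
  simp only [BrauerFeit.pRegularPart_apply, MulEquiv.toEquiv_eq_coe, EquivLike.coe_coe,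
    Subgroup.topEquiv_apply, Subgroup.orderOf_coe]
  split_ifs <;> ring

include hM hmax in
theorem wt_one {χ : IrrCharacter G} (hχ : χ ∈ B) (ψ : IrrCharacter G) :
    wt p M b 1 χ ψ = (Nat.card b.1 : ℂ) * regCoef p χ ψ := by
  rw [wt_of_mem_center hM hmax (one_mem _) (one_mem _) hχ,
    div_self (Chars.irr_apply_one_ne_zero χ), div_self (Chars.irr_apply_one_ne_zero ψ)]
  simp

include hM hmax hnil in
theorem card_inf_centralizer {w : G} (hw : w ∈ b.1) :
    (Nat.card (b.1 ⊓ Subgroup.centralizer ({w} : Set G) : Subgroup G) : ℂ) =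
      (p : ℂ) ^ blockDefect p (bu p M b w).2 := by
  rw [← pow_blockDefect_bu hM hmax hnil hw, Nat.cast_pow]

include hM hmax hnil in
/-- No form vanishes at a character of height zero. -/
theorem wt_self_ne_zero {w : G} (hw : w ∈ b.1) {χ : IrrCharacter G} (hχ : χ ∈ B)
    (h0 : blockHeight p B (χ : G → ℂ) = 0) : wt p M b w χ χ ≠ 0 := by
  intro hz
  have key : ∀ (C : Subgroup G) (e : Set (IrrCharacter C)),
      C = Subgroup.centralizer ({w} : Set G) → IsInducedBlock M C e B →
      (p : ℂ) ^ blockDefect p e * Contrib.contrib p w e χ χ ≠ 0 := by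
    rintro C e rfl he hz
    obtain ⟨lam, hlR, hlU, hl⟩ := Contrib.contrib_congr hM (exists_orderOf_eq hM hmax hw) rfl he.1
    have hV := Contrib.blockVal_subsection hM (exists_orderOf_eq hM hmax hw) he hχ h0
    have hVR := Contrib.memLocalRing_blockVal hM e
      (Chars.isCharacter_restrict (Subgroup.centralizer ({w} : Set G)) (Chars.irr_isCharacter χ))
    have h := hl χ χ
    rw [hz, zero_sub] at h
    refine Blocks.not_memLocalIdeal_mul (Blocks.mem_localRing.1 (mul_mem
      (Blocks.mem_localRing.2 hlR) (Blocks.mem_localRing.2 hVR))) hVR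
      (Blocks.not_memLocalIdeal_mul hlR hVR hlU hV) hV ?_
    have h2 := Blocks.memLocalIdeal_sub Blocks.memLocalIdeal_zero h
    rwa [zero_sub, neg_neg] at h2
  refine key _ _ (centralizer_bu w) (isInducedBlock_bu hM hmax hw) ?_
  rwa [← card_inf_centralizer hM hmax hnil hw]

include hM hmax in
theorem exists_int_wt_one {χ : IrrCharacter G} (hχ : χ ∈ B) (ψ : IrrCharacter G) :
    ∃ n : ℤ, wt p M b 1 χ ψ = n := by
  obtain ⟨n, hn, -⟩ := BrauerFeit.exists_int_defect_mul_regCoef hM (BrauerFeit.regGen p) hχ ψ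
  exact ⟨n, by rw [wt_one hM hmax hχ, card_eq hM hmax, Nat.cast_pow, hn]⟩

include hM hmax hnil in
/-- The forms are idempotent up to their scale. -/
theorem sum_wt_mul {w : G} (hw : w ∈ b.1) (χ ψ : IrrCharacter G) :
    ∑ φ ∈ B.toFinset, wt p M b w χ φ * wt p M b w φ ψ =
      (Nat.card (b.1 ⊓ Subgroup.centralizer ({w} : Set G) : Subgroup G) : ℂ) *
        wt p M b w χ ψ := by
  simp only [wt, con]
  rw [← Contrib.sum_contrib_mul hM (exists_orderOf_eq hM hmax hw) (centralizer_bu w)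
    (isInducedBlock_bu hM hmax hw) χ ψ]
  simp only [Finset.mul_sum]
  exact Finset.sum_congr rfl fun φ _ => by ring

include hM hmax hnil in
/-- Forms of elements not conjugate in the maximal pair are orthogonal. -/
theorem sum_wt_mul_eq_zero {w w' : G} (hw : w ∈ b.1) (hw' : w' ∈ b.1)
    (hne : ¬ ∃ x ∈ b.1, x * w * x⁻¹ = w') (χ ψ : IrrCharacter G) :
    ∑ φ ∈ B.toFinset, wt p M b w χ φ * wt p M b w' φ ψ = 0 := by
  suffices h : ∑ φ ∈ B.toFinset, con p w (bu p M b w) χ φ * con p w' (bu p M b w') φ ψ = 0 by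
    simp only [wt]
    rw [Finset.sum_congr rfl fun φ _ => mul_mul_mul_comm _ _ _ _, ← Finset.mul_sum, h, mul_zero]
  by_cases hg : IsConj w' w
  · obtain ⟨g, hg⟩ := isConj_iff.1 hg
    have hg' : g⁻¹ * w * (g⁻¹)⁻¹ = w' := by rw [← hg]; group
    set a := conjPair g⁻¹ (bu p M b w) with ha
    have haB : IsBrauerPairOf p M B a.1 a.2 :=
      isBrauerPairOf_conj (isBrauerPairOf_bu hM hmax hw) _
    have ha1 : a.1 = Subgroup.zpowers w' := by
      rw [ha, conjPair_fst, bu_fst, MonoidHom.map_zpowers, ← hg']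
      rfl
    rw [Finset.sum_congr rfl fun φ _ => by
      rw [← con_conj w g⁻¹ (bu p M b w) χ φ, hg']]
    exact sum_con_mul_con_of_ne hM (exists_orderOf_eq hM hmax hw') ha1 (bu_fst w')
      (fun h => hne (exists_mem_conj hM hmax hnil hw hw' hg' h)) haB
      (isBrauerPairOf_bu hM hmax hw').1.2 χ ψ
  · exact sum_con_mul_con_of_not_isConj hM (exists_orderOf_eq hM hmax hw)
      (exists_orderOf_eq hM hmax hw') hg (bu_fst w) (bu_fst w') (isBrauerPairOf_bu hM hmax hw) χ ψ

include hM hmax in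
theorem wt_conj {w x : G} (hw : w ∈ b.1) (hx : x ∈ b.1) (χ ψ : IrrCharacter G) :
    wt p M b (x * w * x⁻¹) χ ψ = wt p M b w χ ψ := by
  simp only [wt]
  rw [← conjPair_bu hM hmax hw hx, con_conj]
  congr 2
  rw [← card_map_conj (b.1 ⊓ Subgroup.centralizer ({w} : Set G)) x]
  congr 2
  rw [← centralizer_zpowers w, map_inf_centralizer_of_mem hx, MonoidHom.map_zpowers,
    centralizer_zpowers]
  rfl

include hM hmax hnil in
/-- Subsections of rank one have forms of rank one. -/
theorem exists_rank_one {w : G} (hw : w ∈ b.1) (hr : blockRank p (bu p M b w).2 = 1) :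
    ∃ (j : ℕ) (Q : ℤ) (X : IrrCharacter G → ℕ → ℂ), orderOf w = p ^ j ∧ 1 ≤ Q ∧
      (∀ χ, Contrib.IsCyc (Contrib.theRoot p j) (X χ)) ∧
      ∀ t, ¬ p ∣ t → ∀ χ ψ, wt p M b (w ^ t) χ ψ = X χ t * (Q : ℂ) * conj (X ψ t) := by
  obtain ⟨j, hj⟩ := exists_orderOf_eq hM hmax hw
  obtain ⟨l, Q, A, X, hl, -, -, hQA, hA, -, hX, hform, -⟩ :=
    Contrib.exists_columns hM hj (centralizer_bu w) (isInducedBlock_bu hM hmax hw)
  rw [hr] at hl
  subst hl
  refine ⟨j, Q 0 0, fun χ => X χ 0, hj, ?_, fun χ => hX χ 0, fun t ht χ ψ => ?_⟩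
  · have h := hQA 0 0
    rw [Fin.sum_univ_one, if_pos rfl] at h
    have hA0 : 0 ≤ A 0 0 := by simpa using hA fun _ => 1
    have hpos : 0 < Q 0 0 * A 0 0 := h ▸ pow_pos (Int.natCast_pos.2 (Fact.out : p.Prime).pos) _
    exact Int.add_one_le_iff.2 (pos_of_mul_pos_left hpos hA0)
  · have hcop : (orderOf w).Coprime t :=
      hj ▸ Nat.Coprime.pow_left j ((Fact.out : p.Prime).coprime_iff_not_dvd.2 ht)
    simp only [wt, con]
    rw [bu_pow hM hmax.1.1 hw hcop, Contrib.centralizer_pow hj ht,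
      card_inf_centralizer hM hmax hnil hw, hform t ht χ ψ]
    simp

include hM hmax hnil in
/-- A form of rank one is given by a row of a character where it takes the value one. -/
theorem wt_eq_mul {w : G} (hw : w ∈ b.1) (hr : blockRank p (bu p M b w).2 = 1)
    {χ₀ : IrrCharacter G} (h1 : wt p M b w χ₀ χ₀ = 1) (χ ψ : IrrCharacter G) :
    wt p M b w χ ψ = wt p M b w χ χ₀ * wt p M b w χ₀ ψ := by
  obtain ⟨j, Q, X, -, -, -, hX⟩ := exists_rank_one hM hmax hnil hw hr
  have h := fun χ ψ => hX 1 (Fact.out : p.Prime).not_dvd_one χ ψ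
  simp only [pow_one] at h
  rw [h χ₀ χ₀] at h1
  rw [h, h, h]
  linear_combination (-(X χ 1 * (Q : ℂ) * conj (X ψ 1))) * h1

end Cfsg.Agent.Lib.NilBlock
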