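import Cfsg.Agent.Lib.NilBlock.Rows
import Cfsg.Agent.Lib.BrauerPairs.KernelCore
import Mathlib

/-!
# The structure of a nilpotent block

One irreducible Brauer character, and the characters of the block correspond to those of a defect
group, with heights the exponents of `p` in the degrees.
-/

set_option autoImplicit false
set_option linter.unusedSectionVars false

namespace Cfsg.Agent.Lib.NilBlock

open Cfsg
open Cfsg.Agent.Lib
open Cfsg.Agent.Lib.BrauerPairs
open Cfsg.Agent.Lib.BrauerFeit (regCoef)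
open scoped ComplexConjugate

universe u

attribute [local instance] Classical.propDecidable

variable {G : Type u} [Group G] [Fintype G] {p : ℕ} {M : Ideal AlgInt} [Fact p.Prime] [M.IsPrime]
  {B : Set (IrrCharacter G)} {b : BrauerPairIdx G}
  (hM : IsPModular p M) (hmax : IsMaximalBrauerPair p M B b.1 b.2)
  (hnil : IsNilpotentBlock p M B)
  (hr : ∀ w ∈ b.1, w ∉ Subgroup.center G → blockRank p (bu p M b w).2 = 1)

include hM hmax hnil hr in
/-- The regular parts in the block are multiples of that of a character of height zero. -/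
theorem exists_structure {χ₀ : IrrCharacter G} (hχ₀ : χ₀ ∈ B)
    (h0 : blockHeight p B (χ₀ : G → ℂ) = 0) :
    blockRank p B = 1 ∧ ∃ Φ : B ≃ IrrCharacter b.1, ∀ χ : B,
      (∀ x, pRegularPart p ((χ : IrrCharacter G) : G → ℂ) x =
        (charDegree ((Φ χ : IrrCharacter b.1) : b.1 → ℂ) : ℂ) * pRegularPart p (χ₀ : G → ℂ) x) ∧
      blockHeight p B ((χ : IrrCharacter G) : G → ℂ) =
        (charDegree ((Φ χ : IrrCharacter b.1) : b.1 → ℂ)).factorization p := by
  obtain ⟨Φ, hΦ⟩ := exists_rows hM hmax hnil hr hχ₀ h0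
  choose ε hε hrow using hΦ
  have hPne : (Nat.card b.1 : ℂ) ≠ 0 := Chars.natCard_ne_zero
  have hPinf : Nat.card (b.1 ⊓ Subgroup.centralizer ({(1 : G)} : Set G) : Subgroup G) = Nat.card b.1 := by
    rw [inf_eq_left.2 fun g _ => Subgroup.mem_centralizer_singleton_iff.2 (by simp)]
  set v : IrrCharacter G → ℂ := fun φ => wt p M b 1 φ χ₀ with hv
  have hvreal : ∀ φ ∈ B, conj (v φ) = v φ := fun φ hφ => by
    obtain ⟨n, hn⟩ := exists_int_wt_one hM hmax hφ χ₀
    simp only [hv, hn, map_intCast]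
  have hv0 : v χ₀ = 1 := wt_self_eq_one hM hmax hnil hr hχ₀ h0 (one_mem _)
  have hsymm : ∀ φ ∈ B, ∀ ψ ∈ B, wt p M b 1 φ ψ = wt p M b 1 ψ φ := fun φ hφ ψ hψ => by
    rw [wt_one hM hmax hφ, wt_one hM hmax hψ, BrauerFeit.regCoef_comm]
  have hdiag : ∀ φ ∈ B, wt p M b 1 φ φ = v φ * v φ := by
    intro φ hφ
    obtain ⟨l, hl⟩ : ∃ l, Φ l = ⟨φ, hφ⟩ := ⟨Φ.symm ⟨φ, hφ⟩, Φ.apply_symm_apply _⟩
    have hrow' : ∀ w : b.1, wt p M b w φ χ₀ = (ε l : ℂ) * (l : b.1 → ℂ) w := fun w => by
      rw [← hrow l w, hl]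
    have h1 : ∑ w : b.1, wt p M b w φ χ₀ * wt p M b w χ₀ φ = (Nat.card b.1 : ℂ) := by
      have h := Chars.classInner_irr_self l
      rw [classInner, inv_mul_eq_one₀ hPne] at h
      rw [h]
      refine Finset.sum_congr rfl fun w _ => ?_
      rw [hrow', ← conj_wt (p := p) (M := M) (b := b) (w : G) φ χ₀, hrow', map_mul, map_intCast]
      have : (ε l : ℂ) * (ε l : ℂ) = 1 := by rw [← pow_two]; exact_mod_cast hε l
      linear_combination ((l : b.1 → ℂ) w * conj ((l : b.1 → ℂ) w)) * this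
    have h2 := sum_wt hM hmax hnil hφ φ
    rw [if_pos rfl, ← h1, ← sub_eq_zero, ← Finset.sum_sub_distrib] at h2
    have hterm : ∀ w : b.1, wt p M b w φ φ - wt p M b w φ χ₀ * wt p M b w χ₀ φ =
        if (w : G) ∈ Subgroup.center G then wt p M b 1 φ φ - v φ * v φ else 0 := by
      intro w
      split_ifs with hc
      · have hn : ∀ ψ : IrrCharacter G, ((ψ : G → ℂ) w / (ψ : G → ℂ) 1) *
            conj ((ψ : G → ℂ) w / (ψ : G → ℂ) 1) = 1 := fun ψ => by
          rw [Complex.mul_conj, Complex.normSq_eq_norm_sq, norm_apply_div_one ψ hc]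
          simp
        rw [wt_of_mem_center hM hmax w.2 hc hφ, wt_of_mem_center hM hmax w.2 hc hφ,
          wt_of_mem_center hM hmax w.2 hc hχ₀, ← wt_one hM hmax hφ, ← wt_one hM hmax hφ,
          ← wt_one hM hmax hχ₀, hsymm χ₀ hχ₀ φ hφ, hn φ]
        simp only [hv]
        linear_combination (-(wt p M b 1 φ χ₀ * wt p M b 1 φ χ₀ *
          (((χ₀ : G → ℂ) w / (χ₀ : G → ℂ) 1) * conj ((χ₀ : G → ℂ) w / (χ₀ : G → ℂ) 1)))) * hn φ -
          (wt p M b 1 φ χ₀ * wt p M b 1 φ χ₀) * hn χ₀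
      · rw [← wt_eq_mul hM hmax hnil w.2 (hr w w.2 hc)
          (wt_self_eq_one hM hmax hnil hr hχ₀ h0 w.2), sub_self]
    rw [Finset.sum_congr rfl fun w _ => hterm w, ← Finset.sum_filter, Finset.sum_const,
      nsmul_eq_mul, mul_eq_zero, sub_eq_zero] at h2
    refine h2.resolve_left (Nat.cast_ne_zero.2 (Finset.card_ne_zero.2 ⟨1, ?_⟩))
    exact Finset.mem_filter.2 ⟨Finset.mem_univ _, one_mem _⟩
  have hmul : ∀ φ ∈ B, ∀ ψ ∈ B, wt p M b 1 φ ψ = v φ * v ψ := by
    intro φ hφ ψ hψ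
    have hreal : ∀ ψ ∈ B, conj (wt p M b 1 φ ψ - v φ * v ψ) = wt p M b 1 φ ψ - v φ * v ψ :=
      fun ψ hψ => by
        rw [map_sub, map_mul, hvreal φ hφ, hvreal ψ hψ, conj_wt, ← hsymm φ hφ ψ hψ]
    have hsum : ∀ α β : IrrCharacter G, ∑ θ ∈ B.toFinset, wt p M b 1 α θ * wt p M b 1 θ β =
        (Nat.card b.1 : ℂ) * wt p M b 1 α β := fun α β => by
      rw [sum_wt_mul hM hmax hnil (one_mem _), hPinf]
    have h : ∑ θ ∈ B.toFinset, (wt p M b 1 φ θ - v φ * v θ) * (wt p M b 1 φ θ - v φ * v θ) = 0 := by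
      calc _ = ∑ θ ∈ B.toFinset, (wt p M b 1 φ θ * wt p M b 1 θ φ -
            2 * v φ * (wt p M b 1 φ θ * wt p M b 1 θ χ₀) +
            v φ * v φ * (wt p M b 1 χ₀ θ * wt p M b 1 θ χ₀)) := by
              refine Finset.sum_congr rfl fun θ hθ => ?_
              rw [hsymm θ (Set.mem_toFinset.1 hθ) φ hφ, hsymm χ₀ hχ₀ θ (Set.mem_toFinset.1 hθ)]
              simp only [hv]
              ring
        _ = 0 := by
            rw [Finset.sum_add_distrib, Finset.sum_sub_distrib, ← Finset.mul_sum, ← Finset.mul_sum,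
              hsum, hsum, hsum, hdiag φ hφ]
            simp only [hv] at hv0 ⊢
            rw [hv0]
            ring
    have hz : ∀ θ ∈ B.toFinset, Complex.normSq (wt p M b 1 φ θ - v φ * v θ) = 0 := by
      refine (Finset.sum_eq_zero_iff_of_nonneg fun θ _ => Complex.normSq_nonneg _).1 ?_
      have : ((∑ θ ∈ B.toFinset, Complex.normSq (wt p M b 1 φ θ - v φ * v θ) : ℝ) : ℂ) = 0 := by
        push_cast
        rw [← h]
        refine Finset.sum_congr rfl fun θ hθ => ?_
        rw [← Complex.mul_conj, hreal θ (Set.mem_toFinset.1 hθ)]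
      exact_mod_cast this
    exact sub_eq_zero.1 (Complex.normSq_eq_zero.1 (hz ψ (Set.mem_toFinset.2 hψ)))
  -- the regular parts
  have hreg : ∀ φ ∈ B, pRegularPart p (φ : G → ℂ) = v φ • pRegularPart p (χ₀ : G → ℂ) := by
    intro φ hφ
    rw [Chars.isClassFunction_eq_sum_classInner
        (BrauerFeit.isClassFunction_pRegularPart p (Chars.irr_isClassFunction φ)),
      Chars.isClassFunction_eq_sum_classInner
        (BrauerFeit.isClassFunction_pRegularPart p (Chars.irr_isClassFunction χ₀)), Finset.smul_sum]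
    refine Finset.sum_congr rfl fun ψ _ => ?_
    rw [smul_smul]
    congr 1
    show regCoef p φ ψ = v φ * regCoef p χ₀ ψ
    by_cases hψ : ψ ∈ B
    · refine mul_left_cancel₀ hPne ?_
      rw [← wt_one hM hmax hφ, mul_left_comm, ← wt_one hM hmax hχ₀, hmul φ hφ ψ hψ,
        hmul χ₀ hχ₀ ψ hψ, hv0, one_mul]
    · rw [BrauerFeit.regCoef_eq_zero_of_not_mem (BrauerFeit.regOrth hM) hmax.1.2.1 hφ hψ,
        BrauerFeit.regCoef_eq_zero_of_not_mem (BrauerFeit.regOrth hM) hmax.1.2.1 hχ₀ hψ, mul_zero]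
  have hdeg : ∀ χ : B, (charDegree ((χ : IrrCharacter G) : G → ℂ) : ℕ) =
      charDegree ((Φ.symm χ : IrrCharacter b.1) : b.1 → ℂ) * charDegree (χ₀ : G → ℂ) ∧
      v (χ : IrrCharacter G) =
        (charDegree ((Φ.symm χ : IrrCharacter b.1) : b.1 → ℂ) : ℂ) := by
    intro χ
    set l := Φ.symm χ
    have hvl : v (χ : IrrCharacter G) = (ε l : ℂ) * (charDegree (l : b.1 → ℂ) : ℂ) := by
      rw [← (Blocks.HeightZero.charDegree_eq l).1.symm, ← hrow l 1, Φ.apply_symm_apply]
      simp [hv]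
    have h := congrFun (hreg χ χ.2) 1
    rw [Pi.smul_apply, BrauerFeit.pRegularPart_apply, BrauerFeit.pRegularPart_apply,
      if_neg (by rw [orderOf_one]; exact (Fact.out : p.Prime).not_dvd_one),
      if_neg (by rw [orderOf_one]; exact (Fact.out : p.Prime).not_dvd_one),
      (Blocks.HeightZero.charDegree_eq (χ : IrrCharacter G)).1.symm, (Blocks.HeightZero.charDegree_eq χ₀).1.symm, smul_eq_mul,
      hvl] at h
    have h' : (charDegree ((χ : IrrCharacter G) : G → ℂ) : ℤ) =
        ε l * charDegree (l : b.1 → ℂ) * charDegree (χ₀ : G → ℂ) := by exact_mod_cast h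
    have hε1 : ε l = 1 := by
      rcases sq_eq_one_iff.1 (hε l) with e | e
      · exact e
      · exfalso
        rw [e] at h'
        have : (0 : ℤ) < (charDegree ((χ : IrrCharacter G) : G → ℂ) : ℤ) := by
          exact_mod_cast (Nat.pos_of_ne_zero (Blocks.HeightZero.charDegree_eq (χ : IrrCharacter G)).2)
        have : (0 : ℤ) ≤ (charDegree (l : b.1 → ℂ) : ℤ) * charDegree (χ₀ : G → ℂ) := by positivity
        linarith
    rw [hε1, one_mul] at h'
    exact ⟨by exact_mod_cast h', by rw [hvl, hε1, Int.cast_one, one_mul]⟩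
  refine ⟨?_, Φ.symm, fun χ => ⟨fun x => ?_, ?_⟩⟩
  · have hB := hmax.1.2.1
    have h := sum_wt_mul hM hmax hnil (one_mem b.1) χ₀ χ₀
    rw [hPinf] at h
    have h' : (blockRank p B : ℂ) = 1 := by
      refine mul_left_cancel₀ hPne ?_
      rw [BrauerFeit.blockRank_eq_sum_regCoef hM hB, Finset.mul_sum, mul_one,
        Finset.sum_congr rfl fun φ hφ => by
          rw [← wt_one hM hmax (Set.mem_toFinset.1 hφ)]]
      simp only [hv] at hv0
      rw [hv0, mul_one] at h
      rw [← h]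
      refine Finset.sum_congr rfl fun φ hφ => ?_
      rw [hdiag φ (Set.mem_toFinset.1 hφ), hsymm χ₀ hχ₀ φ (Set.mem_toFinset.1 hφ)]
    exact_mod_cast h'
  · rw [hreg χ χ.2, Pi.smul_apply, smul_eq_mul, (hdeg χ).2]
  · have hχ := BrauerFeit.factorization_add_defect (p := p) χ.2
    have h₀ := BrauerFeit.factorization_add_defect (p := p) hχ₀
    rw [(hdeg χ).1, Nat.factorization_mul (Blocks.HeightZero.charDegree_eq _).2
      (Blocks.HeightZero.charDegree_eq _).2, Finsupp.add_apply] at hχ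
    omega

omit b hmax hnil hr in
include hM in
theorem exists_maximal {P : Subgroup G} (hB : IsPBlock M B) (hP : IsDefectGroup p M B P) :
    ∃ e : Set (IrrCharacter (Subgroup.centralizer (P : Set G))),
      IsMaximalBrauerPair p M B P e := by
  obtain ⟨e, he⟩ := KernelCore.exists_pair_at_defectGroup hM hB hP
  exact ⟨e, KernelCore.isMaximal_of_defectGroup (a := ⟨P, e⟩) hM he hP⟩

omit b hM hmax hnil hr in
/-- Every proper subsection of a nilpotent block has rank one. -/
theorem blockRank_eq_one_aux (hM : IsPModular p M) : ∀ (n : ℕ) (G : Type u) [Group G] [Fintype G]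
    (B : Set (IrrCharacter G)), Nat.card G = n → IsNilpotentBlock p M B → blockRank p B = 1 := by
  intro n
  induction n using Nat.strong_induction_on with
  | _ n ih =>
    intro G _ _ B hn hnil
    obtain ⟨P, hP⟩ := Blocks.exists_isDefectGroup (p := p) hnil.1
    obtain ⟨e, he⟩ := exists_maximal hM hnil.1 hP
    obtain ⟨χ₀, hχ₀, h0⟩ := Blocks.exists_height_zero (p := p) hnil.1
    refine (exists_structure (b := ⟨P, e⟩) hM he hnil (fun w hw hc => ?_) hχ₀ h0).1
    refine ih _ ?_ _ _ rfl (isNilpotentBlock_bu hM he hnil hw)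
    rw [← hn, centralizer_bu, Nat.card_congr (Equiv.refl _), ← Subgroup.card_top (G := G)]
    exact Set.Finite.card_lt_card (Set.finite_univ.subset (Set.subset_univ _))
      ((SetLike.coe_ssubset_coe.2 (lt_top_iff_ne_top.2 fun h => hc (Subgroup.mem_center_iff.2
        fun g => Subgroup.mem_centralizer_singleton_iff.1 (h.symm ▸ Subgroup.mem_top g)))))

omit b hmax hr in
include hM hnil in
theorem blockRank_eq_one : blockRank p B = 1 :=
  blockRank_eq_one_aux hM _ G B rfl hnil

omit hr in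
include hM hmax hnil in
theorem blockRank_bu {w : G} (hw : w ∈ b.1) : blockRank p (bu p M b w).2 = 1 :=
  blockRank_eq_one hM (isNilpotentBlock_bu hM hmax hnil hw)

end Cfsg.Agent.Lib.NilBlock
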