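import Cfsg.Agent.Lib.NilBlock.Subsection
import Cfsg.Agent.Lib.Star.Star
import Cfsg.Agent.Lib.Contrib.Matrix
import Mathlib

/-!
# Contributions of Brauer elements, as functions of the element and the pair
-/

set_option autoImplicit false
set_option linter.unusedSectionVars false

namespace Cfsg.Agent.Lib.NilBlock

open Cfsg
open Cfsg.Agent.Lib
open Cfsg.Agent.Lib.BrauerPairs
open Cfsg.Agent.Lib.BrauerFeit (regCoef)
open scoped ComplexConjugate

universe u

attribute [local instance] Classical.propDecidable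

variable {G : Type u} [Group G] [Fintype G] {p : ℕ} {M : Ideal AlgInt} [Fact p.Prime] [M.IsPrime]
  {B : Set (IrrCharacter G)}

/-- The contribution of the Brauer element `(v, a)` to a pair of characters. -/
noncomputable def con (p : ℕ) (v : G) (a : BrauerPairIdx G) (χ ψ : IrrCharacter G) : ℂ :=
  Contrib.contrib p v a.2 χ ψ

theorem centralizer_eq {v : G} {a : BrauerPairIdx G} (ha : a.1 = Subgroup.zpowers v) :
    Subgroup.centralizer (a.1 : Set G) = Subgroup.centralizer ({v} : Set G) := by
  rw [ha, centralizer_zpowers]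

theorem secCoef_conj (χ : IrrCharacter G) (v x : G) {Q : Subgroup G}
    (ξ : IrrCharacter (Subgroup.centralizer (Q : Set G))) :
    Contrib.secCoef p (x * v * x⁻¹) χ (Chars.irrCongr (centEquiv Q x).symm ξ) =
      Contrib.secCoef p v χ ξ := by
  simp only [Contrib.secCoef, classInner]
  rw [Nat.card_congr (centEquiv Q x).toEquiv]
  congr 1
  refine (Fintype.sum_equiv (centEquiv Q x).toEquiv _ _ fun c => ?_).symm
  simp only [MulEquiv.toEquiv_eq_coe, EquivLike.coe_coe, BrauerMap.irrCongr_apply,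
    MulEquiv.symm_apply_apply, BrauerFeit.pRegularPart_apply, MulEquiv.orderOf_eq, coe_centEquiv]
  congr 1
  split_ifs
  · rfl
  · rw [← Chars.irr_isClassFunction χ (v * (c : G)) x]
    congr 1
    group

/-- The contributions are equivariant. -/
theorem con_conj (v x : G) (a : BrauerPairIdx G) (χ ψ : IrrCharacter G) :
    con p (x * v * x⁻¹) (conjPair x a) χ ψ = con p v a χ ψ := by
  show Contrib.contrib p (x * v * x⁻¹) (conjBlock a.1 x a.2) χ ψ = _
  simp only [con, Contrib.contrib]
  rw [show (conjBlock a.1 x a.2).toFinset =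
    a.2.toFinset.image (Chars.irrCongr (centEquiv a.1 x).symm) from by
      ext
      rw [Set.mem_toFinset, conjBlock_eq_image, Finset.mem_image]
      simp only [Set.mem_image, Set.mem_toFinset], Finset.sum_image (fun _ _ _ _ h => (Chars.irrCongr _).injective h)]
  exact Finset.sum_congr rfl fun ξ _ => by rw [secCoef_conj, secCoef_conj]

/-- A sum over the blocks of the centralizer of `Q` and their members is a sum over all
characters. -/
theorem sum_pairsOn {Q : Subgroup G} (f : (a : BrauerPairIdx G) →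
    IrrCharacter (Subgroup.centralizer (a.1 : Set G)) → ℂ) :
    ∑ a ∈ Star.pairsOn M Q, ∑ ξ ∈ a.2.toFinset, f a ξ =
      ∑ ξ : IrrCharacter (Subgroup.centralizer (Q : Set G)),
        f ⟨Q, blockOf M (ξ : ↥(Subgroup.centralizer (Q : Set G)) → ℂ)⟩ ξ := by
  rw [show Star.pairsOn M Q = Finset.univ.image
      (fun ξ : IrrCharacter (Subgroup.centralizer (Q : Set G)) =>
        (⟨Q, blockOf M (ξ : ↥(Subgroup.centralizer (Q : Set G)) → ℂ)⟩ : BrauerPairIdx G)) from ?_,
    Finset.sum_image']
  · intro ξ _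
    rw [show ((⟨Q, blockOf M (ξ : ↥(Subgroup.centralizer (Q : Set G)) → ℂ)⟩ : BrauerPairIdx G)).2 =
      blockOf M (ξ : ↥(Subgroup.centralizer (Q : Set G)) → ℂ) from rfl]
    refine Finset.sum_congr ?_ fun η hη => ?_
    · ext η
      simp only [Set.mem_toFinset, Finset.mem_filter, Finset.mem_univ, true_and, Sigma.mk.injEq,
        heq_eq_eq]
      exact ⟨fun h => (Blocks.eq_blockOf_of_mem (Blocks.isPBlock_blockOf ξ) h).symm,
        fun h => h ▸ Blocks.mem_blockOf_self η⟩
    · have key : ∀ S T : Set (IrrCharacter (Subgroup.centralizer (Q : Set G))), S = T →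
          ∀ z, f ⟨Q, S⟩ z = f ⟨Q, T⟩ z := by
        rintro S T rfl z
        rfl
      refine key _ _ ?_ _
      simpa using (Finset.mem_filter.1 hη).2.symm
  · ext a
    rw [Star.mem_pairsOn]
    simp only [Finset.mem_image, Finset.mem_univ, true_and]
    constructor
    · rintro ⟨rfl, ha⟩
      obtain ⟨ξ, hξ⟩ := Blocks.isPBlock_nonempty ha
      exact ⟨ξ, Sigma.ext rfl (heq_of_eq (Blocks.eq_blockOf_of_mem ha hξ).symm)⟩
    · rintro ⟨ξ, rfl⟩
      exact ⟨rfl, Blocks.isPBlock_blockOf ξ⟩

set_option maxHeartbeats 1000000 in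
/-- All the contributions at `v` give the section of `v`. -/
theorem sum_con_pairsOn (v : G) (χ ψ : IrrCharacter G) :
    ∑ a ∈ Star.pairsOn M (Subgroup.zpowers v), con p v a χ ψ =
      (Nat.card (Subgroup.centralizer (Subgroup.zpowers v : Set G)) : ℂ)⁻¹ *
        ∑ c : Subgroup.centralizer (Subgroup.zpowers v : Set G),
          if p ∣ orderOf c then 0 else
            (χ : G → ℂ) (v * (c : G)) * conj ((ψ : G → ℂ) (v * (c : G))) := by
  simp only [con, Contrib.contrib]
  rw [sum_pairsOn]
  have hcls : ∀ φ : IrrCharacter G, IsClassFunction (Subgroup.centralizer (Subgroup.zpowers v : Set G))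
      (pRegularPart p fun c : Subgroup.centralizer (Subgroup.zpowers v : Set G) =>
        (φ : G → ℂ) (v * (c : G))) := by
    intro φ
    refine BrauerFeit.isClassFunction_pRegularPart p fun c d => ?_
    show (φ : G → ℂ) _ = (φ : G → ℂ) _
    rw [← Chars.irr_isClassFunction φ (v * (c : G)) (d : G)]
    refine congrArg _ ?_
    have hd : (d : G) * v = v * d :=
      (Subgroup.mem_centralizer_iff.1 d.2 v (Subgroup.mem_zpowers v)).symm
    simp only [Subgroup.coe_mul, Subgroup.coe_inv]
    calc v * ((d : G) * c * (d : G)⁻¹) = (v * d) * c * (d : G)⁻¹ := by group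
      _ = (d : G) * (v * c) * (d : G)⁻¹ := by rw [← hd]; group
  have he : ∀ φ : IrrCharacter G, (∑ ξ : IrrCharacter (Subgroup.centralizer (Subgroup.zpowers v : Set G)),
      Contrib.secCoef p v φ ξ • (ξ : ↥(Subgroup.centralizer (Subgroup.zpowers v : Set G)) → ℂ)) =
      pRegularPart p fun c : Subgroup.centralizer (Subgroup.zpowers v : Set G) =>
        (φ : G → ℂ) (v * (c : G)) := fun φ =>
    (Chars.isClassFunction_eq_sum_classInner (hcls φ)).symm
  refine ((Chars.classInner_sum_smul_sum_smul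
    (fun ξ => Contrib.secCoef p v χ ξ) (fun ξ => Contrib.secCoef p v ψ ξ)).symm.trans ?_)
  rw [he χ, he ψ, classInner]
  congr 1
  refine Finset.sum_congr rfl fun c _ => ?_
  simp only [BrauerFeit.pRegularPart_apply]
  split_ifs <;> simp

/-- A Brauer element outside the block contributes nothing. -/
theorem secCoef_eq_zero (hM : IsPModular p M) {v : G} (hv : ∃ k : ℕ, orderOf v = p ^ k)
    {a : BrauerPairIdx G} (ha : a.1 = Subgroup.zpowers v) {B' : Set (IrrCharacter G)}
    (haB : IsBrauerPairOf p M B' a.1 a.2) {χ : IrrCharacter G} (hχ : χ ∉ B')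
    {ξ : IrrCharacter (Subgroup.centralizer (a.1 : Set G))} (hξ : ξ ∈ a.2) :
    Contrib.secCoef p v χ ξ = 0 :=
  Contrib.secCoef_eq_zero hM hv (centralizer_eq ha)
    (isInducedBlock_of_pair hM haB (by rw [ha]; exact zpowers_le_centralizer v)) hχ hξ

theorem con_eq_zero (hM : IsPModular p M) {v : G} (hv : ∃ k : ℕ, orderOf v = p ^ k)
    {a : BrauerPairIdx G} (ha : a.1 = Subgroup.zpowers v) (hab : IsPBlock M a.2)
    (hB : IsPBlock M B) (hno : ¬ IsBrauerPairOf p M B a.1 a.2) {χ : IrrCharacter G} (hχ : χ ∈ B)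
    (ψ : IrrCharacter G) : con p v a χ ψ = 0 := by
  have hap : IsBrauerPair p M a.1 a.2 := ⟨ha ▸ IsPGroup.of_card (n := hv.choose)
    (by rw [Nat.card_zpowers]; exact hv.choose_spec), hab⟩
  obtain ⟨B', hB', -⟩ := BrauerMap.existsUnique_isBrauerPairOf hM hap
  have hne : χ ∉ B' := fun h => hno (Blocks.isPBlock_eq_of_mem hB hB'.2.1 hχ h ▸ hB')
  simp only [con, Contrib.contrib]
  refine Finset.sum_eq_zero fun ξ hξ => ?_
  rw [secCoef_eq_zero hM hv ha hB' hne (Set.mem_toFinset.1 hξ), zero_mul]

/-- Products of contributions of Brauer elements of the block with inner sums. -/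
theorem sum_con_mul_con (hM : IsPModular p M) {v w : G} (hv : ∃ k : ℕ, orderOf v = p ^ k)
    {a a' : BrauerPairIdx G} (ha : a.1 = Subgroup.zpowers v)
    (haB : IsBrauerPairOf p M B a.1 a.2) (χ ψ : IrrCharacter G) :
    ∑ φ ∈ B.toFinset, con p v a χ φ * con p w a' φ ψ =
      ∑ ξ ∈ a.2.toFinset, ∑ ξ' ∈ a'.2.toFinset,
        Contrib.secCoef p v χ ξ * conj (Contrib.secCoef p w ψ ξ') *
          ∑ φ : IrrCharacter G, Contrib.secCoef p w φ ξ' * conj (Contrib.secCoef p v φ ξ) := by
  have hall : ∑ φ ∈ B.toFinset, con p v a χ φ * con p w a' φ ψ =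
      ∑ φ : IrrCharacter G, con p v a χ φ * con p w a' φ ψ := by
    refine Finset.sum_subset (Finset.subset_univ _) fun φ _ hφ => ?_
    refine mul_eq_zero_of_left (Finset.sum_eq_zero fun ξ hξ => ?_) _
    rw [secCoef_eq_zero hM hv ha haB (χ := φ) (by simpa using hφ) (Set.mem_toFinset.1 hξ),
      map_zero, mul_zero]
  rw [hall]
  calc ∑ φ : IrrCharacter G, con p v a χ φ * con p w a' φ ψ
      = ∑ φ : IrrCharacter G, ∑ ξ ∈ a.2.toFinset, ∑ ξ' ∈ a'.2.toFinset,
          Contrib.secCoef p v χ ξ * conj (Contrib.secCoef p w ψ ξ') *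
            (Contrib.secCoef p w φ ξ' * conj (Contrib.secCoef p v φ ξ)) := by
        refine Finset.sum_congr rfl fun φ _ => ?_
        simp only [con, Contrib.contrib]
        rw [Finset.sum_mul_sum]
        exact Finset.sum_congr rfl fun ξ _ => Finset.sum_congr rfl fun ξ' _ => by ring
    _ = _ := by
        rw [Finset.sum_comm]
        refine Finset.sum_congr rfl fun ξ _ => ?_
        rw [Finset.sum_comm]
        exact Finset.sum_congr rfl fun ξ' _ => (Finset.mul_sum _ _ _).symm

/-- Non-conjugate elements give orthogonal contributions. -/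
theorem sum_con_mul_con_of_not_isConj (hM : IsPModular p M) {v w : G}
    (hv : ∃ k : ℕ, orderOf v = p ^ k) (hw : ∃ k : ℕ, orderOf w = p ^ k)
    (hvw : ¬ IsConj w v) {a a' : BrauerPairIdx G} (ha : a.1 = Subgroup.zpowers v)
    (ha' : a'.1 = Subgroup.zpowers w) (haB : IsBrauerPairOf p M B a.1 a.2)
    (χ ψ : IrrCharacter G) : ∑ φ ∈ B.toFinset, con p v a χ φ * con p w a' φ ψ = 0 := by
  rw [sum_con_mul_con hM hv ha haB]
  refine Finset.sum_eq_zero fun ξ _ => Finset.sum_eq_zero fun ξ' _ => mul_eq_zero_of_right _ ?_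
  have hcom : ∀ (z : G) {Q : Subgroup G}, Q = Subgroup.zpowers z →
      ∀ c : Subgroup.centralizer (Q : Set G), Commute z (c : G) := fun z Q hQ c =>
    Subgroup.mem_centralizer_iff.1 c.2 z (hQ.ge (Subgroup.mem_zpowers z))
  simp only [Contrib.secCoef, classInner, map_mul, map_sum, Finset.mul_sum, Finset.sum_mul]
  rw [Finset.sum_comm]
  refine Finset.sum_eq_zero fun y _ => ?_
  rw [Finset.sum_comm]
  refine Finset.sum_eq_zero fun z _ => ?_
  simp only [BrauerFeit.pRegularPart_apply]
  by_cases hy : p ∣ orderOf y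
  · simp [hy]
  by_cases hz : p ∣ orderOf z
  · simp [hz]
  simp only [if_neg hy, if_neg hz]
  have horth : ∀ g h : G, IsPPart p g w → IsPPart p h v →
      ∑ φ : IrrCharacter G, (φ : G → ℂ) g * conj ((φ : G → ℂ) h) = 0 := fun g h hg hh =>
    Chars.column_orthogonality_of_not_isConj fun hc => hvw (by
      obtain ⟨c, hc⟩ := isConj_iff.1 hc
      exact isConj_iff.2 ⟨c, Blocks.isPPart_unique (hc ▸ Blocks.isPPart_conj hg c) hh⟩)
  have h1 := horth (w * (z : G)) (v * (y : G))
    (Blocks.Sections.isPPart_mul p hw (hcom w ha' z) (by rwa [Subgroup.orderOf_coe]))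
    (Blocks.Sections.isPPart_mul p hv (hcom v ha y) (by rwa [Subgroup.orderOf_coe]))
  refine Eq.trans (Finset.sum_congr rfl (g := fun φ : IrrCharacter G =>
    ((φ : G → ℂ) (w * (z : G)) * conj ((φ : G → ℂ) (v * (y : G)))) *
    ((Nat.card (Subgroup.centralizer (a'.1 : Set G)) : ℂ)⁻¹ * conj ((ξ' : _ → ℂ) z) *
      conj ((Nat.card (Subgroup.centralizer (a.1 : Set G)) : ℂ)⁻¹) * conj (conj ((ξ : _ → ℂ) y))))
    fun φ _ => ?_) (by rw [← Finset.sum_mul, h1, zero_mul])
  ring

/-- Different blocks at one element give orthogonal contributions. -/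
theorem sum_con_mul_con_of_ne (hM : IsPModular p M) {v : G}
    (hv : ∃ k : ℕ, orderOf v = p ^ k) {a a' : BrauerPairIdx G} (ha : a.1 = Subgroup.zpowers v)
    (ha' : a'.1 = Subgroup.zpowers v) (hne : a ≠ a') (haB : IsBrauerPairOf p M B a.1 a.2)
    (hab' : IsPBlock M a'.2) (χ ψ : IrrCharacter G) :
    ∑ φ ∈ B.toFinset, con p v a χ φ * con p v a' φ ψ = 0 := by
  rw [sum_con_mul_con hM hv ha haB]
  obtain ⟨Q, f⟩ := a
  obtain ⟨Q', f'⟩ := a'
  obtain rfl : Q = Q' := ha.trans ha'.symm
  refine Finset.sum_eq_zero fun ξ hξ => Finset.sum_eq_zero fun ξ' hξ' => mul_eq_zero_of_right _ ?_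
  rw [Set.mem_toFinset] at hξ hξ'
  rw [Contrib.sum_secCoef_mul_conj hM hv (centralizer_eq (a := ⟨Q, f⟩) ha)]
  refine BrauerFeit.regCoef_eq_zero_of_not_mem (BrauerFeit.regOrth hM) haB.1.2 hξ fun h => hne ?_
  exact congrArg _ (Blocks.isPBlock_eq_of_mem haB.1.2 hab' h hξ')

/-- The part of a character in a block against another character, over the section. -/
theorem sum_part_mul_conj (hM : IsPModular p M) {v : G} {a : BrauerPairIdx G}
    (ha : a.1 = Subgroup.zpowers v) (hab : IsPBlock M a.2) (χ ψ : IrrCharacter G) :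
    ∑ c : Subgroup.centralizer (a.1 : Set G), (if p ∣ orderOf c then 0 else
        Star.part a (χ : G → ℂ) (v * (c : G)) * conj ((ψ : G → ℂ) (v * (c : G)))) =
      (Nat.card (Subgroup.centralizer (a.1 : Set G)) : ℂ) * con p v a χ ψ := by
  have hC := centralizer_eq ha
  have hpart : ∀ c : Subgroup.centralizer (a.1 : Set G), Star.part a (χ : G → ℂ) (v * (c : G)) =
      ∑ η ∈ a.2.toFinset, Contrib.secMult hC χ η * (η : _ → ℂ) c := by
    intro c
    have hz : (v : G) * (c : G) = ((Contrib.secElt hC * c : Subgroup.centralizer (a.1 : Set G)) : G) :=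
      rfl
    rw [hz, Star.part_eq_blockPart a (Chars.irr_isClassFunction χ), blockPart,
      finsum_mem_eq_toFinset_sum, Subsingleton.elim (Fintype.ofFinite _)
        (inferInstance : Fintype (Subgroup.centralizer (a.1 : Set G)))]
    refine Finset.sum_congr rfl fun η _ => ?_
    rw [← Subgroup.mem_center_iff.1 (Contrib.secElt_mem_center hC) c,
      Blocks.CentralKernel.irr_mul_central η (Contrib.secElt_mem_center hC)]
    simp only [Contrib.secMult, Contrib.secScalar]
    ring
  have hterm : ∀ η ∈ a.2.toFinset, ∑ c : Subgroup.centralizer (a.1 : Set G),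
      (if p ∣ orderOf c then 0 else Contrib.secMult hC χ η * (η : _ → ℂ) c *
        conj ((ψ : G → ℂ) (v * (c : G)))) =
      (Nat.card (Subgroup.centralizer (a.1 : Set G)) : ℂ) *
        (Contrib.secMult hC χ η * conj (Contrib.secCoef p v ψ η)) := by
    intro η _
    simp only [Contrib.secCoef, classInner, map_mul, map_inv₀, Complex.conj_natCast, map_sum,
      Complex.conj_conj, BrauerFeit.pRegularPart_apply, Finset.mul_sum]
    refine Finset.sum_congr rfl fun c _ => ?_
    split_ifs
    · simp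
    · have : (Nat.card (Subgroup.centralizer (a.1 : Set G)) : ℂ) ≠ 0 := Chars.natCard_ne_zero
      field_simp
  calc _ = ∑ η ∈ a.2.toFinset, ∑ c : Subgroup.centralizer (a.1 : Set G),
        (if p ∣ orderOf c then 0 else Contrib.secMult hC χ η * (η : _ → ℂ) c *
          conj ((ψ : G → ℂ) (v * (c : G)))) := by
        rw [Finset.sum_comm]
        refine Finset.sum_congr rfl fun c _ => ?_
        split_ifs
        · simp
        · rw [hpart, Finset.sum_mul]
    _ = _ := by
        rw [Finset.sum_congr rfl hterm, ← Finset.mul_sum]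
        congr 1
        simp only [con, Contrib.contrib]
        have hsum : ∀ η ∈ a.2.toFinset, conj (Contrib.secCoef p v ψ η) =
            ∑ ξ ∈ a.2.toFinset, regCoef p η ξ * conj (Contrib.secCoef p v ψ ξ) := fun η hη => by
          rw [← Contrib.sum_secCoef_mul_regCoef hM hC hab ψ (Set.mem_toFinset.1 hη), map_sum]
          refine Finset.sum_congr rfl fun ξ _ => ?_
          rw [map_mul, BrauerFeit.conj_regCoef, BrauerFeit.regCoef_comm p ξ η, mul_comm]
        rw [Finset.sum_congr rfl fun η hη => by rw [hsum η hη, Finset.mul_sum], Finset.sum_comm]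
        refine Finset.sum_congr rfl fun ξ hξ => ?_
        rw [Contrib.secCoef_eq_block hM hC hab χ (Set.mem_toFinset.1 hξ), Finset.sum_mul]
        exact Finset.sum_congr rfl fun η _ => by ring

end Cfsg.Agent.Lib.NilBlock
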