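import Cfsg.Agent.Lib.NilBlock.Contribution
import Mathlib

/-!
# Sums over the Brauer elements of a nilpotent block
-/

set_option autoImplicit false
set_option linter.unusedSectionVars false

namespace Cfsg.Agent.Lib.NilBlock

open Cfsg
open Cfsg.Agent.Lib
open Cfsg.Agent.Lib.BrauerPairs
open scoped ComplexConjugate

universe u

attribute [local instance] Classical.propDecidable

variable {G : Type u} [Group G] [Fintype G] {p : ℕ} {M : Ideal AlgInt} [Fact p.Prime] [M.IsPrime]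
  {B : Set (IrrCharacter G)} {b : BrauerPairIdx G}

/-- The `p`-elements. -/
noncomputable def pElems (p : ℕ) (G : Type u) [Group G] [Fintype G] : Finset G :=
  Finset.univ.filter fun v => ∃ k : ℕ, orderOf v = p ^ k

theorem mem_pElems {v : G} : v ∈ pElems p G ↔ ∃ k : ℕ, orderOf v = p ^ k := by simp [pElems]

/-- A sum over the group, by `p`-parts. -/
theorem sum_eq_sum_sections (f : G → ℂ) :
    ∑ g : G, f g = ∑ v ∈ pElems p G,
      ∑ c : Subgroup.centralizer (Subgroup.zpowers v : Set G),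
        if p ∣ orderOf c then 0 else f (v * (c : G)) := by
  rw [← Finset.sum_fiberwise_of_maps_to (s := (Finset.univ : Finset G)) (t := pElems p G)
    (g := fun g => g ^ Blocks.pPartExp G p) fun g _ => ?_]
  · refine Finset.sum_congr rfl fun v hv => ?_
    rw [Finset.sum_ite, Finset.sum_const_zero, zero_add]
    refine Finset.sum_bij' (fun g hg => (⟨v⁻¹ * g, ?_⟩ :
      Subgroup.centralizer (Subgroup.zpowers v : Set G))) (fun c _ => v * (c : G)) ?_ ?_ ?_ ?_ ?_
    · rw [centralizer_zpowers, Subgroup.mem_centralizer_singleton_iff]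
      obtain ⟨y, hy, hc, -, -⟩ := Blocks.isPPart_iff.2 (Finset.mem_filter.1 hg).2.symm
      rw [show v⁻¹ * g = y by rw [← hy, inv_mul_cancel_left]]
      exact hc.eq.symm
    · intro g hg
      obtain ⟨y, hy, -, -, hy'⟩ := Blocks.isPPart_iff.2 (Finset.mem_filter.1 hg).2.symm
      refine Finset.mem_filter.2 ⟨Finset.mem_univ _, ?_⟩
      rw [← Subgroup.orderOf_coe]
      show ¬ p ∣ orderOf (v⁻¹ * g)
      rwa [show v⁻¹ * g = y by rw [← hy, inv_mul_cancel_left]]
    · intro c hc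
      refine Finset.mem_filter.2 ⟨Finset.mem_univ _, (Blocks.isPPart_iff.1
        (Blocks.Sections.isPPart_mul p (mem_pElems.1 hv)
          (Subgroup.mem_centralizer_iff.1 c.2 v (Subgroup.mem_zpowers v))
          (by rw [Subgroup.orderOf_coe]; exact (Finset.mem_filter.1 hc).2))).symm⟩
    · intro g _
      exact mul_inv_cancel_left v g
    · intro c _
      exact Subtype.ext (inv_mul_cancel_left v (c : G))
    · intro g _
      rw [mul_inv_cancel_left]
  · obtain ⟨_, -, -, hu', -⟩ := Blocks.isPPart_iff.2 (rfl : g ^ Blocks.pPartExp G p = _)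
    exact mem_pElems.2 hu'

variable (hM : IsPModular p M) (hmax : IsMaximalBrauerPair p M B b.1 b.2)
  (hnil : IsNilpotentBlock p M B)

include hM hmax in
theorem exists_orderOf_eq {w : G} (hw : w ∈ b.1) : ∃ k : ℕ, orderOf w = p ^ k := by
  obtain ⟨k, hk⟩ := IsPGroup.iff_orderOf.1 hmax.1.1.1 ⟨w, hw⟩
  exact ⟨k, (Subgroup.orderOf_mk w hw).symm.trans hk⟩

include hM hmax hnil in
/-- Counting the Brauer elements of the block through the maximal pair. -/
theorem sum_brauerElements (K : G → BrauerPairIdx G → ℂ)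
    (hK : ∀ (x v : G) (a : BrauerPairIdx G), a.1 = Subgroup.zpowers v → IsPBlock M a.2 →
      K (x * v * x⁻¹) (conjPair x a) = K v a)
    (hK0 : ∀ v ∈ pElems p G, ∀ a ∈ Star.pairsOn M (Subgroup.zpowers v),
      ¬ IsBrauerPairOf p M B a.1 a.2 → K v a = 0) :
    (Nat.card b.1 : ℂ) * ∑ v ∈ pElems p G,
        (Nat.card (Subgroup.centralizer (Subgroup.zpowers v : Set G)) : ℂ) *
          ∑ a ∈ Star.pairsOn M (Subgroup.zpowers v), K v a =
      (Nat.card G : ℂ) * ∑ w : b.1,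
        (Nat.card (b.1 ⊓ Subgroup.centralizer ({(w : G)} : Set G) : Subgroup G) : ℂ) *
          K w (bu p M b w) := by
  have hblock : ∀ w : b.1, IsPBlock M (bu p M b w).2 := fun w =>
    (isBrauerPairOf_bu hM hmax w.2).1.2
  set Φ : G × b.1 → (Σ _ : G, BrauerPairIdx G) := fun q =>
    ⟨q.1 * (q.2 : G) * q.1⁻¹, conjPair q.1 (bu p M b q.2)⟩ with hΦ
  set T : Finset (Σ _ : G, BrauerPairIdx G) :=
    ((pElems p G).sigma fun v => Star.pairsOn M (Subgroup.zpowers v)).filter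
      fun x => IsBrauerPairOf p M B x.2.1 x.2.2 with hT
  have hmaps : ∀ q : G × b.1, Φ q ∈ T := by
    intro q
    obtain ⟨k, hk⟩ := exists_orderOf_eq hM hmax q.2.2
    refine Finset.mem_filter.2 ⟨Finset.mem_sigma.2 ⟨mem_pElems.2 ⟨k, ?_⟩,
      Star.mem_pairsOn.2 ⟨?_, isPBlock_conjPair (hblock q.2) _⟩⟩,
      isBrauerPairOf_conj (isBrauerPairOf_bu hM hmax q.2.2) _⟩
    · show orderOf ((MulAut.conj q.1) (q.2 : G)) = _
      rw [MulEquiv.orderOf_eq, hk]
    · show (bu p M b q.2).1.map (MulAut.conj q.1).toMonoidHom = _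
      rw [bu_fst, MonoidHom.map_zpowers]
      rfl
  have hfib : ∀ x ∈ T, ∑ q ∈ Finset.univ.filter (fun q : G × b.1 => Φ q = x),
      (Nat.card (b.1 ⊓ Subgroup.centralizer ({(q.2 : G)} : Set G) : Subgroup G) : ℂ) *
        K q.2 (bu p M b q.2) =
      (Nat.card b.1 : ℂ) *
        ((Nat.card (Subgroup.centralizer (Subgroup.zpowers x.1 : Set G)) : ℂ) * K x.1 x.2) := by
    rintro ⟨v, a⟩ hx
    simp only [hT, Finset.mem_filter, Finset.mem_sigma, Star.mem_pairsOn] at hx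
    obtain ⟨g₀, w₀, hw₀, rfl, rfl⟩ := exists_conj_bu hM hmax hx.1.2.1 hx.2
    set S := Finset.univ.filter (fun q : G × b.1 =>
      Φ q = ⟨g₀ * w₀ * g₀⁻¹, conjPair g₀ (bu p M b w₀)⟩) with hS
    have hmem : ∀ q ∈ S, ∃ x : b.1, (x : G) * w₀ * (x : G)⁻¹ = (q.2 : G) := by
      intro q hq
      have hq' := (Finset.mem_filter.1 hq).2
      simp only [hΦ, Sigma.mk.injEq, heq_eq_eq] at hq'
      obtain ⟨x, hx, hxw⟩ := exists_mem_conj hM hmax hnil (g := q.1⁻¹ * g₀) hw₀ q.2.2 (by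
        calc q.1⁻¹ * g₀ * w₀ * (q.1⁻¹ * g₀)⁻¹ = q.1⁻¹ * (g₀ * w₀ * g₀⁻¹) * q.1 := by group
          _ = q.1⁻¹ * (q.1 * (q.2 : G) * q.1⁻¹) * q.1 := by rw [hq'.1]
          _ = (q.2 : G) := by group) (by
        rw [← conjPair_mul (hblock ⟨w₀, hw₀⟩), ← hq'.2, conjPair_inv_cancel (hblock q.2)])
      exact ⟨⟨x, hx⟩, hxw⟩
    set D := Subgroup.centralizer (Subgroup.zpowers (g₀ * w₀ * g₀⁻¹) : Set G)
    set ψ : D × b.1 → G × b.1 := fun cx =>
      ((cx.1 : G) * g₀ * (cx.2 : G)⁻¹,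
        ⟨(cx.2 : G) * w₀ * (cx.2 : G)⁻¹, mul_mem (mul_mem cx.2.2 hw₀) (inv_mem cx.2.2)⟩) with hψ
    have hψS : ∀ cx : D × b.1, ψ cx ∈ S := by
      intro cx
      refine Finset.mem_filter.2 ⟨Finset.mem_univ _, ?_⟩
      have hc : (cx.1 : G) * (g₀ * w₀ * g₀⁻¹) = g₀ * w₀ * g₀⁻¹ * (cx.1 : G) :=
        (Subgroup.mem_centralizer_iff.1 cx.1.2 _ (Subgroup.mem_zpowers _)).symm
      have hst : conjPair (cx.1 : G) (conjPair g₀ (bu p M b w₀)) = conjPair g₀ (bu p M b w₀) :=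
        core_le_pairStab (isPBlock_conjPair (hblock ⟨w₀, hw₀⟩) g₀) (Subgroup.mem_sup_right (by
          rw [hx.1.2.1]
          exact cx.1.2))
      simp only [hΦ, hψ, Sigma.mk.injEq, heq_eq_eq]
      constructor
      · calc (cx.1 : G) * g₀ * (cx.2 : G)⁻¹ * ((cx.2 : G) * w₀ * (cx.2 : G)⁻¹) *
              ((cx.1 : G) * g₀ * (cx.2 : G)⁻¹)⁻¹
            = ((cx.1 : G) * (g₀ * w₀ * g₀⁻¹)) * (cx.1 : G)⁻¹ := by group
          _ = g₀ * w₀ * g₀⁻¹ := by rw [hc, mul_inv_cancel_right]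
      · rw [← conjPair_bu hM hmax hw₀ cx.2.2, conjPair_mul (hblock ⟨w₀, hw₀⟩),
          inv_mul_cancel_right, ← conjPair_mul (hblock ⟨w₀, hw₀⟩), hst]
    have hsurj : ∀ q ∈ S, ∃ cx : D × b.1, ψ cx = q := by
      intro q hq
      obtain ⟨x, hxw⟩ := hmem q hq
      have hq' := (Finset.mem_filter.1 hq).2
      simp only [hΦ, Sigma.mk.injEq, heq_eq_eq] at hq'
      refine ⟨(⟨q.1 * (x : G) * g₀⁻¹, ?_⟩, x), ?_⟩
      · show _ ∈ Subgroup.centralizer (Subgroup.zpowers (g₀ * w₀ * g₀⁻¹) : Set G)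
        rw [centralizer_zpowers, Subgroup.mem_centralizer_singleton_iff]
        calc q.1 * (x : G) * g₀⁻¹ * (g₀ * w₀ * g₀⁻¹)
            = q.1 * ((x : G) * w₀ * (x : G)⁻¹) * (x : G) * g₀⁻¹ := by group
          _ = (q.1 * (q.2 : G) * q.1⁻¹) * (q.1 * (x : G) * g₀⁻¹) := by rw [hxw]; group
          _ = _ := by rw [hq'.1]
      · exact Prod.ext (by simp [hψ, mul_assoc]) (Subtype.ext hxw)
    have hcard : ∀ q ∈ S, (Finset.univ.filter fun cx : D × b.1 => ψ cx = q).card =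
        Nat.card (b.1 ⊓ Subgroup.centralizer ({w₀} : Set G) : Subgroup G) := by
      intro q hq
      obtain ⟨⟨c₁, x₁⟩, hcx⟩ := hsurj q hq
      rw [Nat.card_eq_fintype_card, ← Finset.card_univ]
      symm
      refine Finset.card_nbij'
        (fun y => (⟨(c₁ : G) * (g₀ * (y : G) * g₀⁻¹), ?_⟩,
          ⟨(x₁ : G) * (y : G), mul_mem x₁.2 y.2.1⟩))
        (fun cx => if h : (x₁ : G)⁻¹ * (cx.2 : G) ∈ b.1 ⊓ Subgroup.centralizer ({w₀} : Set G)
          then (⟨_, h⟩ : ↥(b.1 ⊓ Subgroup.centralizer ({w₀} : Set G))) else 1)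
        ?_ ?_ ?_ ?_
      · refine mul_mem c₁.2 ?_
        show _ ∈ Subgroup.centralizer (Subgroup.zpowers (g₀ * w₀ * g₀⁻¹) : Set G)
        rw [centralizer_zpowers, Subgroup.mem_centralizer_singleton_iff]
        calc g₀ * (y : G) * g₀⁻¹ * (g₀ * w₀ * g₀⁻¹) = g₀ * ((y : G) * w₀) * g₀⁻¹ := by group
          _ = g₀ * (w₀ * (y : G)) * g₀⁻¹ := by
            rw [Subgroup.mem_centralizer_singleton_iff.1 y.2.2]
          _ = _ := by group
      · intro y _
        refine Finset.mem_filter.2 ⟨Finset.mem_univ _, hcx ▸ ?_⟩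
        simp only [hψ]
        refine Prod.ext (by show _ * _ * _ = _ * _ * _; group) (Subtype.ext ?_)
        show (x₁ : G) * (y : G) * w₀ * ((x₁ : G) * (y : G))⁻¹ = (x₁ : G) * w₀ * (x₁ : G)⁻¹
        calc (x₁ : G) * (y : G) * w₀ * ((x₁ : G) * (y : G))⁻¹
            = (x₁ : G) * ((y : G) * w₀) * (y : G)⁻¹ * (x₁ : G)⁻¹ := by group
          _ = (x₁ : G) * w₀ * (x₁ : G)⁻¹ := by
            rw [Subgroup.mem_centralizer_singleton_iff.1 y.2.2]; group
      · intro cx _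
        exact Finset.mem_univ _
      · intro y _
        simp [y.2.1, y.2.2]
      · intro cx hcx'
        have h1 := (Finset.mem_filter.1 (Finset.mem_coe.1 hcx')).2
        rw [← hcx] at h1
        simp only [hψ, Prod.mk.injEq, Subtype.mk.injEq] at h1
        have hy : (x₁ : G)⁻¹ * (cx.2 : G) ∈ b.1 ⊓ Subgroup.centralizer ({w₀} : Set G) := by
          refine ⟨b.1.mul_mem (b.1.inv_mem x₁.2) cx.2.2, Subgroup.mem_centralizer_singleton_iff.2 ?_⟩
          calc (x₁ : G)⁻¹ * (cx.2 : G) * w₀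
              = (x₁ : G)⁻¹ * ((cx.2 : G) * w₀ * (cx.2 : G)⁻¹) * (cx.2 : G) := by group
            _ = w₀ * ((x₁ : G)⁻¹ * (cx.2 : G)) := by rw [h1.2]; group
        simp only [dif_pos hy]
        refine Prod.ext (Subtype.ext ?_) (Subtype.ext (mul_inv_cancel_left _ _))
        show (c₁ : G) * (g₀ * ((x₁ : G)⁻¹ * (cx.2 : G)) * g₀⁻¹) = (cx.1 : G)
        calc (c₁ : G) * (g₀ * ((x₁ : G)⁻¹ * (cx.2 : G)) * g₀⁻¹)
            = ((c₁ : G) * g₀ * (x₁ : G)⁻¹) * (cx.2 : G) * g₀⁻¹ := by group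
          _ = (cx.1 : G) := by rw [← h1.1]; group
    have htot : Nat.card D * Nat.card b.1 =
        S.card * Nat.card (b.1 ⊓ Subgroup.centralizer ({w₀} : Set G) : Subgroup G) := by
      rw [← Nat.card_prod, Nat.card_eq_fintype_card, ← Finset.card_univ,
        Finset.card_eq_sum_card_fiberwise (f := ψ) (t := S) fun cx _ => hψS cx,
        Finset.sum_congr rfl hcard, Finset.sum_const, smul_eq_mul]
    have hconst : ∀ q ∈ S,
        (Nat.card (b.1 ⊓ Subgroup.centralizer ({(q.2 : G)} : Set G) : Subgroup G) : ℂ) *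
          K q.2 (bu p M b q.2) =
        (Nat.card (b.1 ⊓ Subgroup.centralizer ({w₀} : Set G) : Subgroup G) : ℂ) *
          K (g₀ * w₀ * g₀⁻¹) (conjPair g₀ (bu p M b w₀)) := by
      intro q hq
      obtain ⟨x, hxw⟩ := hmem q hq
      rw [hK g₀ w₀ _ (bu_fst _) (hblock ⟨w₀, hw₀⟩), ← hxw, ← conjPair_bu hM hmax hw₀ x.2,
        hK (x : G) w₀ _ (bu_fst _) (hblock ⟨w₀, hw₀⟩)]
      congr 2
      rw [← card_map_conj (b.1 ⊓ Subgroup.centralizer ({w₀} : Set G)) (x : G)]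
      congr 2
      rw [← centralizer_zpowers w₀, map_inf_centralizer_of_mem x.2, MonoidHom.map_zpowers,
        centralizer_zpowers]
      rfl
    rw [Finset.sum_congr rfl hconst, Finset.sum_const, nsmul_eq_mul, ← mul_assoc, ← mul_assoc,
      ← Nat.cast_mul, ← htot, Nat.cast_mul]
    ring
  have hsum := Finset.sum_fiberwise_of_maps_to (s := (Finset.univ : Finset (G × b.1))) (t := T)
    (g := Φ) (fun q _ => hmaps q) fun q =>
      (Nat.card (b.1 ⊓ Subgroup.centralizer ({(q.2 : G)} : Set G) : Subgroup G) : ℂ) *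
        K q.2 (bu p M b q.2)
  rw [Finset.sum_congr rfl hfib, Fintype.sum_prod_type] at hsum
  simp only [Finset.sum_const, Finset.card_univ, nsmul_eq_mul, Fintype.card_eq_nat_card] at hsum
  rw [← hsum, hT, Finset.sum_filter_of_ne, Finset.sum_sigma, Finset.mul_sum]
  · exact Finset.sum_congr rfl fun v _ => by
      rw [Finset.mul_sum, Finset.mul_sum]
  · intro x hx hne
    by_contra hno
    obtain ⟨h1, h2⟩ := Finset.mem_sigma.1 hx
    exact hne (by rw [hK0 _ h1 _ h2 hno, mul_zero, mul_zero])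

end Cfsg.Agent.Lib.NilBlock
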