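import Cfsg.Agent.Lib.NilBlock.Coef
import Mathlib

/-!
# The rows of a height zero character in a nilpotent block
-/

set_option autoImplicit false
set_option linter.unusedSectionVars false

namespace Cfsg.Agent.Lib.NilBlock

open Cfsg
open Cfsg.Agent.Lib
open Cfsg.Agent.Lib.BrauerPairs
open Cfsg.Agent.Lib.BrauerFeit (regCoef)
open Cfsg.Agent.Lib.Contrib (primResidues theRoot isPrimitiveRoot_theRoot IsCyc)
open scoped ComplexConjugate

universe u

attribute [local instance] Classical.propDecidable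

variable {G : Type u} [Group G] [Fintype G] {p : ℕ} {M : Ideal AlgInt} [Fact p.Prime] [M.IsPrime]
  {B : Set (IrrCharacter G)} {b : BrauerPairIdx G}

/-- A central element acts in a character by a scalar of absolute value one. -/
theorem norm_apply_div_one (χ : IrrCharacter G) {z : G} (hz : z ∈ Subgroup.center G) :
    ‖(χ : G → ℂ) z / (χ : G → ℂ) 1‖ = 1 := by
  have hpow : ∀ n : ℕ, ((χ : G → ℂ) z / (χ : G → ℂ) 1) ^ n = (χ : G → ℂ) (z ^ n) / (χ : G → ℂ) 1 := by
    intro n
    induction n with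
    | zero => simp [div_self (Chars.irr_apply_one_ne_zero χ)]
    | succ n ih =>
      rw [pow_succ, ih, pow_succ, Blocks.CentralKernel.irr_mul_central χ hz]
      ring
  refine Complex.norm_eq_one_of_pow_eq_one (n := orderOf z) ?_ (orderOf_pos z).ne'
  rw [hpow, pow_orderOf_eq_one, div_self (Chars.irr_apply_one_ne_zero χ)]

theorem sum_isConj_mul {H : Type u} [Group H] [Fintype H] {f : H → ℂ} (hf : IsClassFunction H f)
    (w : H) :
    (Nat.card (Subgroup.centralizer ({w} : Set H)) : ℂ) *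
      ∑ y : H, (if IsConj w y then f y else 0) = (Nat.card H : ℂ) * f w := by
  rw [← Finset.sum_filter, Finset.sum_congr rfl (g := fun _ => f w) fun y hy => ?_,
    Finset.sum_const, nsmul_eq_mul, ← mul_assoc, ← Nat.cast_mul]
  · congr 2
    rw [← Subgroup.index_mul_card (Subgroup.centralizer ({w} : Set H)),
      ← Chars.card_conjClass_eq_index, mul_comm]
    congr 1
    rw [Nat.card_eq_fintype_card, Fintype.card_subtype]
  · obtain ⟨x, rfl⟩ := isConj_iff.1 (Finset.mem_filter.1 hy).2
    exact hf w x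

variable (hM : IsPModular p M) (hmax : IsMaximalBrauerPair p M B b.1 b.2)
  (hnil : IsNilpotentBlock p M B)
  (hr : ∀ w ∈ b.1, w ∉ Subgroup.center G → blockRank p (bu p M b w).2 = 1)

include hM hmax hnil hr in
/-- Every form takes the value one at a character of height zero. -/
theorem wt_self_eq_one {χ₀ : IrrCharacter G} (hχ₀ : χ₀ ∈ B)
    (h0 : blockHeight p B (χ₀ : G → ℂ) = 0) {w : G} (hw : w ∈ b.1) :
    wt p M b w χ₀ χ₀ = 1 := by
  have hp : p.Prime := Fact.out
  obtain ⟨d, hd⟩ : ∃ d, Nat.card b.1 = p ^ d := ⟨_, card_eq hM hmax⟩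
  haveI : NeZero (p ^ (d + 1)) := ⟨pow_ne_zero _ hp.ne_zero⟩
  set η := theRoot p d with hηdef
  have hη : IsPrimitiveRoot η (p ^ (d + 1)) := isPrimitiveRoot_theRoot p d
  choose r hr0 hrw using fun z : G => exists_nonneg_wt_self (p := p) (M := M) (b := b) z χ₀
  set R := primResidues p (d + 1)
  have hRt : ∀ t ∈ R, ¬ p ∣ t := fun t ht => (Finset.mem_filter.1 ht).2
  -- the sum of all the values
  have hsum : ∑ v : b.1, r v = (p : ℝ) ^ d := by
    have h := sum_wt hM hmax hnil hχ₀ χ₀
    rw [if_pos rfl, hd] at h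
    simp only [hrw] at h
    exact_mod_cast h
  have hsumt : ∀ t ∈ R, ∑ v : b.1, r ((v : G) ^ t) = (p : ℝ) ^ d := fun t ht => by
    have hcop : (Nat.card b.1).Coprime t :=
      hd ▸ Nat.Coprime.pow_left d (hp.coprime_iff_not_dvd.2 (hRt t ht))
    rw [← hsum]
    exact Fintype.sum_equiv (powCoprime hcop) _ _ fun v => rfl
  have h1 : ∃ n : ℤ, 1 ≤ n ∧ r 1 = n := by
    obtain ⟨n, hn⟩ := exists_int_wt_one hM hmax hχ₀ χ₀
    have hne := wt_self_ne_zero hM hmax hnil (one_mem b.1) hχ₀ h0
    have hn' : r 1 = n := by rw [hrw] at hn; exact_mod_cast hn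
    refine ⟨n, ?_, hn'⟩
    have h0' := hn' ▸ hr0 1
    have hne' : n ≠ 0 := fun h => hne (by rw [hn, h, Int.cast_zero])
    have : (0 : ℤ) ≤ n := by exact_mod_cast h0'
    omega
  have key : ∀ v : b.1, (R.card : ℝ) ≤ ∑ t ∈ R, r ((v : G) ^ t) ∧
      (∑ t ∈ R, r ((v : G) ^ t) = (R.card : ℝ) → r v = 1) := by
    intro v
    by_cases hc : (v : G) ∈ Subgroup.center G
    · obtain ⟨n, hn1, hn⟩ := h1
      have hz : ∀ z ∈ b.1, z ∈ Subgroup.center G → r z = r 1 := by
        intro z hz hzc
        have h := wt_of_mem_center hM hmax hz hzc hχ₀ χ₀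
        rw [← wt_one hM hmax hχ₀ χ₀, Complex.mul_conj, hrw, hrw, Complex.normSq_eq_norm_sq,
          norm_apply_div_one χ₀ hzc] at h
        simpa using h
      have hcard : (0 : ℝ) < R.card := by
        exact_mod_cast Finset.card_pos.2 ⟨1, Contrib.one_mem_primResidues hp (Nat.succ_pos d)⟩
      rw [Finset.sum_congr rfl fun t _ => hz _ (pow_mem v.2 t) (pow_mem hc t), Finset.sum_const,
        nsmul_eq_mul, hn]
      refine ⟨le_mul_of_one_le_right hcard.le (by exact_mod_cast hn1), fun he => ?_⟩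
      rw [hz v v.2 hc, hn]
      exact (mul_eq_left₀ hcard.ne').1 he
    · obtain ⟨j, Q, X, hj, hQ, hX, hwt⟩ := exists_rank_one hM hmax hnil v.2 (hr v v.2 hc)
      have hval : ∀ t, ¬ p ∣ t → r ((v : G) ^ t) = (Q : ℝ) * ‖X χ₀ t‖ ^ 2 := fun t ht => by
        have h := hwt t ht χ₀ χ₀
        rw [hrw, show X χ₀ t * (Q : ℂ) * conj (X χ₀ t) = (Q : ℂ) * (X χ₀ t * conj (X χ₀ t)) by ring,
          Complex.mul_conj, Complex.normSq_eq_norm_sq] at h
        exact_mod_cast h
      have hj' : j ≤ d := by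
        refine (Nat.pow_dvd_pow_iff_le_right hp.one_lt).1 ?_
        rw [← hj, ← hd, Subgroup.orderOf_coe]
        exact orderOf_dvd_natCard v
      obtain ⟨i, -, hi⟩ := hη.eq_pow_of_pow_eq_one (ξ := theRoot p j) (by
        obtain ⟨e, he⟩ := pow_dvd_pow p (Nat.succ_le_succ hj')
        rw [he, pow_mul, (isPrimitiveRoot_theRoot p j).pow_eq_one, one_pow])
      have hcyc : IsCyc η (X χ₀) := isCyc_of_pow (hX χ₀) hi
      have hX1 : X χ₀ 1 ≠ 0 := fun h => by
        refine wt_self_ne_zero hM hmax hnil v.2 hχ₀ h0 ?_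
        have := hval 1 hp.not_dvd_one
        rw [pow_one, h] at this
        rw [hrw, this]
        simp
      have hle := hcyc.card_le_sum_norm_sq hp (Nat.succ_pos d) hη hX1
      have hQ' : (1 : ℝ) ≤ Q := by exact_mod_cast hQ
      rw [Finset.sum_congr rfl fun t ht => hval t (hRt t ht), ← Finset.mul_sum]
      have hs0 : (0 : ℝ) ≤ ∑ t ∈ R, ‖X χ₀ t‖ ^ 2 := Finset.sum_nonneg fun _ _ => sq_nonneg _
      refine ⟨hle.trans (le_mul_of_one_le_left hs0 hQ'), fun he => ?_⟩
      have hcard : (0 : ℝ) < R.card := by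
        exact_mod_cast Finset.card_pos.2 ⟨1, Contrib.one_mem_primResidues hp (Nat.succ_pos d)⟩
      have hs : ∑ t ∈ R, ‖X χ₀ t‖ ^ 2 ≤ (R.card : ℝ) :=
        he ▸ le_mul_of_one_le_left hs0 hQ'
      have hQ1 : (Q : ℝ) = 1 := by
        rw [le_antisymm hs hle] at he
        exact (mul_eq_right₀ hcard.ne').1 he
      have := hval 1 hp.not_dvd_one
      rw [pow_one] at this
      rw [this, hQ1, norm_eq_one_of_sum_le hp (Nat.succ_pos d) hη hcyc hX1 hs hp.not_dvd_one]
      norm_num
  have htot : ∑ v : b.1, ∑ t ∈ R, r ((v : G) ^ t) = ∑ _v : b.1, (R.card : ℝ) := by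
    rw [Finset.sum_comm, Finset.sum_congr rfl hsumt, Finset.sum_const, nsmul_eq_mul,
      Finset.sum_const, nsmul_eq_mul, Finset.card_univ, Fintype.card_eq_nat_card, hd]
    push_cast
    ring
  have heq := (Finset.sum_eq_sum_iff_of_le fun v _ => (key v).1).1 htot.symm
  rw [hrw, (key ⟨w, hw⟩).2 (heq _ (Finset.mem_univ _)).symm, Complex.ofReal_one]

include hM hmax in
theorem wt_one_ne_zero {χ₀ : IrrCharacter G} (hχ₀ : χ₀ ∈ B)
    (h0 : blockHeight p B (χ₀ : G → ℂ) = 0) {φ : IrrCharacter G} (hφ : φ ∈ B) :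
    wt p M b 1 φ χ₀ ≠ 0 := by
  rw [wt_one hM hmax hφ, BrauerFeit.regCoef_eq_regPairing]
  refine mul_ne_zero (Nat.cast_ne_zero.2 Nat.card_pos.ne') (mul_ne_zero (div_ne_zero
    (Nat.cast_ne_zero.2 (Blocks.HeightZero.charDegree_eq φ).2) Chars.natCard_ne_zero) fun h => ?_)
  refine Blocks.HeightZero.not_memLocalIdeal_regPairing hM (BrauerFeit.regOrth hM) (χ := φ) (η := χ₀) ?_
    (Blocks.sameBlock_of_mem hmax.1.2.1 hφ hχ₀) (h ▸ Blocks.memLocalIdeal_zero)
  rwa [← Blocks.eq_blockOf_of_mem hmax.1.2.1 hχ₀]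

include hM hmax hnil hr in
/-- The rows of a character of height zero are the irreducible characters of the maximal pair,
up to signs. -/
theorem exists_rows {χ₀ : IrrCharacter G} (hχ₀ : χ₀ ∈ B)
    (h0 : blockHeight p B (χ₀ : G → ℂ) = 0) :
    ∃ Φ : IrrCharacter b.1 ≃ B, ∀ l : IrrCharacter b.1, ∃ ε : ℤ, ε ^ 2 = 1 ∧
      ∀ w : b.1, wt p M b w (Φ l) χ₀ = (ε : ℂ) * (l : b.1 → ℂ) w := by
  set P := b.1 with hP
  have hPne : (Nat.card P : ℂ) ≠ 0 := Chars.natCard_ne_zero
  have hT : ∀ (l : IrrCharacter P) (φ : IrrCharacter G), ∃ n : ℤ,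
      ∑ w : P, (l : P → ℂ) w * wt p M b w χ₀ φ = (Nat.card P : ℂ) * n := by
    intro l φ
    obtain ⟨n, hn⟩ := Chars.isGeneralizedCharacter_classInner_int
      (isGeneralizedCharacter_star hM hmax hnil (Chars.irr_isCharacter l) (Chars.irr_isCharacter χ₀))
      (Chars.isGeneralizedCharacter_of_isCharacter (Chars.irr_isCharacter φ))
    refine ⟨n, ?_⟩
    rw [← hn]
    exact (classInner_star hM hmax hnil (Chars.irr_isClassFunction l) hχ₀ φ).symm
  choose n hn using hT
  have hn' : ∀ (l : IrrCharacter P) (φ : IrrCharacter G),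
      ∑ w : P, conj ((l : P → ℂ) w) * wt p M b w φ χ₀ = (Nat.card P : ℂ) * n l φ := fun l φ => by
    have h := congrArg conj (hn l φ)
    simpa only [map_sum, map_mul, conj_wt, Complex.conj_natCast, map_intCast] using h
  have horth : ∀ l m : IrrCharacter P,
      ∑ φ ∈ B.toFinset, n l φ * n m φ = if l = m then 1 else 0 := by
    intro l m
    have h : (Nat.card P : ℂ) ^ 2 * ((∑ φ ∈ B.toFinset, n l φ * n m φ : ℤ) : ℂ) =
        (Nat.card P : ℂ) ^ 2 * classInner (l : P → ℂ) (m : P → ℂ) := by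
      calc (Nat.card P : ℂ) ^ 2 * ((∑ φ ∈ B.toFinset, n l φ * n m φ : ℤ) : ℂ)
          = ∑ φ ∈ B.toFinset, (∑ w : P, (l : P → ℂ) w * wt p M b w χ₀ φ) *
              ∑ y : P, conj ((m : P → ℂ) y) * wt p M b y φ χ₀ := by
            push_cast
            rw [Finset.mul_sum]
            exact Finset.sum_congr rfl fun φ _ => by rw [hn, hn']; ring
        _ = ∑ w : P, ∑ y : P, (l : P → ℂ) w * conj ((m : P → ℂ) y) *
              ∑ φ ∈ B.toFinset, wt p M b w χ₀ φ * wt p M b y φ χ₀ := by
            rw [Finset.sum_congr rfl fun φ _ => Finset.sum_mul_sum _ _ _ _, Finset.sum_comm]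
            refine Finset.sum_congr rfl fun w _ => ?_
            rw [Finset.sum_comm]
            refine Finset.sum_congr rfl fun y _ => ?_
            rw [Finset.mul_sum]
            exact Finset.sum_congr rfl fun φ _ => by ring
        _ = ∑ w : P, ∑ y : P, (l : P → ℂ) w * ((Nat.card (Subgroup.centralizer ({w} : Set P)) : ℂ) *
              if IsConj w y then conj ((m : P → ℂ) y) else 0) := by
            refine Finset.sum_congr rfl fun w _ => Finset.sum_congr rfl fun y _ => ?_
            rw [mul_assoc]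
            congr 1
            by_cases hc : IsConj w y
            · obtain ⟨x, hx⟩ := isConj_iff.1 hc
              have hxy : ∀ φ ψ, wt p M b y φ ψ = wt p M b w φ ψ := fun φ ψ => by
                rw [← hx]
                exact wt_conj hM hmax w.2 x.2 φ ψ
              have hcard : Nat.card (Subgroup.centralizer ({w} : Set P)) =
                  Nat.card (P ⊓ Subgroup.centralizer ({(w : G)} : Set G) : Subgroup G) :=
                Nat.card_congr
                  { toFun := fun z => ⟨((z : P) : G), (z : P).2,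
                      Subgroup.mem_centralizer_singleton_iff.2
                        (congrArg Subtype.val (Subgroup.mem_centralizer_singleton_iff.1 z.2))⟩
                    invFun := fun z => ⟨⟨z, z.2.1⟩, Subgroup.mem_centralizer_singleton_iff.2
                      (Subtype.ext (Subgroup.mem_centralizer_singleton_iff.1 z.2.2))⟩
                    left_inv := fun _ => rfl
                    right_inv := fun _ => rfl }
              simp only [hxy, if_pos hc, sum_wt_mul hM hmax hnil w.2,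
                wt_self_eq_one hM hmax hnil hr hχ₀ h0 w.2, hcard]
              ring
            · rw [if_neg hc, sum_wt_mul_eq_zero hM hmax hnil w.2 y.2]
              · simp
              rintro ⟨x, hx, hxy⟩
              exact hc (isConj_iff.2 ⟨⟨x, hx⟩, Subtype.ext hxy⟩)
        _ = _ := by
            rw [classInner, ← mul_assoc, pow_two, mul_assoc (Nat.card P : ℂ) _ _⁻¹,
              mul_inv_cancel₀ hPne, mul_one, Finset.mul_sum]
            refine Finset.sum_congr rfl fun w _ => ?_
            rw [← Finset.mul_sum, ← Finset.mul_sum]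
            have hcl' : IsClassFunction P fun y : P => conj ((m : P → ℂ) y) := fun g x => by
              simp only [Chars.irr_isClassFunction m g x]
            have h' := sum_isConj_mul hcl' w
            refine Eq.trans (congrArg _ ?_) (mul_left_comm _ _ _)
            refine Eq.trans ?_ h'
            congr!
    have h' := mul_left_cancel₀ (pow_ne_zero 2 hPne) h
    rw [Chars.classInner_irr] at h'
    exact_mod_cast h'
  have hsingle : ∀ l, ∃ φ ∈ B, n l φ ^ 2 = 1 ∧ ∀ ψ ∈ B, ψ ≠ φ → n l ψ = 0 := by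
    intro l
    have h := horth l l
    rw [if_pos rfl] at h
    obtain ⟨φ, hφ, hne⟩ := Finset.exists_ne_zero_of_sum_ne_zero (h.trans_ne one_ne_zero)
    have hne' : n l φ ≠ 0 := left_ne_zero_of_mul hne
    have h1 : 1 ≤ n l φ * n l φ := by
      have := mul_self_pos.2 hne'
      omega
    rw [← Finset.add_sum_erase _ _ hφ] at h
    have h2 : ∑ ψ ∈ B.toFinset.erase φ, n l ψ * n l ψ = 0 :=
      le_antisymm (by linarith) (Finset.sum_nonneg fun ψ _ => mul_self_nonneg _)
    refine ⟨φ, Set.mem_toFinset.1 hφ, by rw [pow_two]; linarith, fun ψ hψ hψφ => ?_⟩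
    exact mul_self_eq_zero.1 ((Finset.sum_eq_zero_iff_of_nonneg fun ψ _ => mul_self_nonneg _).1 h2 ψ
      (Finset.mem_erase.2 ⟨hψφ, Set.mem_toFinset.2 hψ⟩))
  choose f hfB hf1 hf0 using hsingle
  have hinj : Function.Injective f := by
    intro l m he
    by_contra hlm
    have h := horth l m
    rw [if_neg hlm, Finset.sum_eq_single (f l) (fun ψ hψ hne => by
      rw [hf0 l ψ (Set.mem_toFinset.1 hψ) hne, zero_mul]) (fun hh => absurd
      (Set.mem_toFinset.2 (hfB l)) hh)] at h
    rcases mul_eq_zero.1 h with h' | h'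
    · exact absurd (hf1 l) (by simp [h'])
    · exact absurd (hf1 m) (by rw [← he]; simp [h'])
  have hexp : ∀ φ, φ ∈ B → ∀ w : P,
      wt p M b w φ χ₀ = ∑ l : IrrCharacter P, (n l φ : ℂ) * (l : P → ℂ) w := by
    intro φ _ w
    have hcl : IsClassFunction P fun z : P => wt p M b z φ χ₀ := fun g x =>
      wt_conj hM hmax g.2 x.2 φ χ₀
    have h := congrFun (Chars.isClassFunction_eq_sum_classInner hcl) w
    simp only [Finset.sum_apply, Pi.smul_apply, smul_eq_mul] at h
    rw [h]
    refine Finset.sum_congr rfl fun l _ => ?_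
    congr 1
    rw [classInner, Finset.sum_congr rfl fun z _ => mul_comm _ _, hn',
      inv_mul_cancel_left₀ hPne]
  have hsurj : ∀ φ ∈ B, ∃ l, f l = φ := by
    intro φ hφ
    by_contra hno
    push Not at hno
    refine wt_one_ne_zero hM hmax hχ₀ h0 hφ ((hexp φ hφ 1).trans (Finset.sum_eq_zero fun l _ => ?_))
    rw [hf0 l φ hφ (hno l).symm, Int.cast_zero, zero_mul]
  refine ⟨Equiv.ofBijective (fun l => ⟨f l, hfB l⟩) ⟨fun l m h => hinj (congrArg Subtype.val h),
    fun φ => (hsurj φ φ.2).imp fun l hl => Subtype.ext hl⟩, fun l => ⟨n l (f l), hf1 l, fun w => ?_⟩⟩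
  show wt p M b w (f l) χ₀ = _
  rw [hexp _ (hfB l), Finset.sum_eq_single l (fun m _ hne => by
    rw [hf0 m _ (hfB l) (hinj.ne hne).symm, Int.cast_zero, zero_mul]) (by simp)]

end Cfsg.Agent.Lib.NilBlock
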