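import Cfsg.Agent.Lib.BrauerPairs.NilpotentLocal
import Cfsg.Agent.Lib.BrauerPairs.Elements
import Cfsg.Agent.Lib.BrauerPairs.Saturation
import Cfsg.Agent.Lib.Blocks.InducedBlock
import Cfsg.Agent.Lib.BrauerFeit.DefectGroup
import Cfsg.Agent.Lib.Contrib.Matrix
import Mathlib

/-!
# The subsections of a nilpotent block
-/

set_option autoImplicit false

namespace Cfsg.Agent.Lib.NilBlock

open Cfsg
open Cfsg.Agent.Lib
open Cfsg.Agent.Lib.BrauerPairs

universe u

variable {G : Type u} [Group G] [Finite G] {M : Ideal AlgInt} [M.IsPrime] {p : ℕ}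
  {B : Set (IrrCharacter G)} {b : BrauerPairIdx G}

/-- A pair on a cyclic subgroup generated by a `p`-element induces its block. -/
theorem isInducedBlock_of_pair (hM : IsPModular p M) {a : BrauerPairIdx G}
    (ha : IsBrauerPairOf p M B a.1 a.2) (hab : a.1 ≤ Subgroup.centralizer (a.1 : Set G)) :
    IsInducedBlock M (Subgroup.centralizer (a.1 : Set G)) a.2 B := by
  haveI := Fact.mk hM.1
  obtain ⟨B', hB'⟩ := Blocks.inducedBlockDefined hM ha.1.1 hab le_rfl
    (Subgroup.centralizer_le_normalizer _) ha.1.2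
  have h' := isBrauerPairOf_of_isInducedBlock ha.1.1 hB'
  rwa [(BrauerMap.existsUnique_isBrauerPairOf hM ha.1).unique ha h']

theorem zpowers_le_centralizer (v : G) :
    Subgroup.zpowers v ≤ Subgroup.centralizer (Subgroup.zpowers v : Set G) := by
  rintro _ ⟨i, rfl⟩
  refine Subgroup.mem_centralizer_iff.2 ?_
  rintro _ ⟨j, rfl⟩
  exact ((Commute.refl v).zpow_zpow j i).eq

open Classical in
/-- The pair below `b` on the subgroup generated by `u`. -/
noncomputable def bu (p : ℕ) (M : Ideal AlgInt) (b : BrauerPairIdx G) (u : G) : BrauerPairIdx G :=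
  if h : ∃ a : BrauerPairIdx G, a.1 = Subgroup.zpowers u ∧ PairLE p M a b then h.choose
  else ⟨Subgroup.zpowers u, ∅⟩

theorem bu_fst (u : G) : (bu p M b u).1 = Subgroup.zpowers u := by
  rw [bu]
  split_ifs with h
  · exact h.choose_spec.1
  · rfl

theorem bu_le (hM : IsPModular p M) (hb : IsPair p M b) {u : G} (hu : u ∈ b.1) :
    PairLE p M (bu p M b u) b := by
  have h : ∃ a : BrauerPairIdx G, a.1 = Subgroup.zpowers u ∧ PairLE p M a b :=
    exists_pairLE hM hb (Subgroup.zpowers_le.2 hu)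
  rw [bu, dif_pos h]
  exact h.choose_spec.2

theorem eq_bu (hM : IsPModular p M) (hb : IsPair p M b) {u : G} (hu : u ∈ b.1)
    {a : BrauerPairIdx G} (ha : PairLE p M a b) (h : a.1 = Subgroup.zpowers u) :
    a = bu p M b u :=
  pairLE_unique hM hb ha (bu_le hM hb hu) (h.trans (bu_fst u).symm)

theorem bu_pow (hM : IsPModular p M) (hb : IsPair p M b) {u : G} (hu : u ∈ b.1) {t : ℕ}
    (ht : (orderOf u).Coprime t) : bu p M b (u ^ t) = bu p M b u := by
  refine eq_bu hM hb hu (bu_le hM hb (pow_mem hu t)) ((bu_fst _).trans ?_)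
  refine le_antisymm (Subgroup.zpowers_le.2 (pow_mem (Subgroup.mem_zpowers u) t))
    (Subgroup.zpowers_le.2 ?_)
  obtain ⟨m, hm⟩ := exists_pow_eq_self_of_coprime ht.symm
  exact ⟨(m : ℤ), (zpow_natCast _ m).trans hm⟩

theorem centralizer_bu (u : G) :
    Subgroup.centralizer ((bu p M b u).1 : Set G) = Subgroup.centralizer ({u} : Set G) := by
  rw [bu_fst, centralizer_zpowers]

variable (hM : IsPModular p M) (hmax : IsMaximalBrauerPair p M B b.1 b.2)

include hM hmax

theorem isBrauerPairOf_bu {u : G} (hu : u ∈ b.1) :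
    IsBrauerPairOf p M B (bu p M b u).1 (bu p M b u).2 := by
  have hle := bu_le hM hmax.1.1 hu
  exact (BrauerMap.isBrauerPairOf_iff_of_subpairLE hM hle hmax.1.1 hmax.1.2.1).1 hmax.1

theorem isInducedBlock_bu {u : G} (hu : u ∈ b.1) :
    IsInducedBlock M (Subgroup.centralizer ((bu p M b u).1 : Set G)) (bu p M b u).2 B := by
  refine isInducedBlock_of_pair hM (isBrauerPairOf_bu hM hmax hu) ?_
  rw [bu_fst]
  exact zpowers_le_centralizer u

theorem conjPair_bu {u x : G} (hu : u ∈ b.1) (hx : x ∈ b.1) :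
    conjPair x (bu p M b u) = bu p M b (x * u * x⁻¹) := by
  have h := pairLE_conj (bu_le hM hmax.1.1 hu) x
  rw [conjPair_of_mem hmax.1.1 hx] at h
  refine eq_bu hM hmax.1.1 (mul_mem (mul_mem hx hu) (inv_mem hx)) h ?_
  rw [conjPair_fst, bu_fst, MonoidHom.map_zpowers]
  rfl

/-- Every subsection of the block is conjugate to one below the maximal pair. -/
theorem exists_conj_bu {v : G} {a : BrauerPairIdx G} (ha1 : a.1 = Subgroup.zpowers v)
    (ha : IsBrauerPairOf p M B a.1 a.2) :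
    ∃ g : G, ∃ u ∈ b.1, v = g * u * g⁻¹ ∧ a = conjPair g (bu p M b u) := by
  obtain ⟨x, hx⟩ := exists_conj_pairLE_max (a := b) (b := a) hM hmax ha
  have hfst : (conjPair x a).1 = Subgroup.zpowers (x * v * x⁻¹) := by
    rw [conjPair_fst, ha1, MonoidHom.map_zpowers]
    rfl
  have hu : x * v * x⁻¹ ∈ b.1 := pairLE_fst_le hx (hfst ▸ Subgroup.mem_zpowers _)
  refine ⟨x⁻¹, _, hu, by group, ?_⟩
  rw [← eq_bu hM hmax.1.1 hu hx hfst, conjPair_inv_cancel ha.1.2]

variable (hnil : IsNilpotentBlock p M B)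

include hnil

/-- Subsections below the maximal pair fused by the block are fused by its subgroup. -/
theorem exists_mem_conj {u u' g : G} (hu : u ∈ b.1) (hu' : u' ∈ b.1) (hg : g * u * g⁻¹ = u')
    (hb : conjPair g (bu p M b u) = bu p M b u') : ∃ x ∈ b.1, x * u * x⁻¹ = u' := by
  have hF := isBlockFusionSystemOn_blockSystem hM hmax
  have hmem : conjHom (bu p M b u).1 g ∈ (blockSystem hM hmax.1.1).Hom (bu p M b u).1 :=
    (mem_hom_iff hF).2 ⟨bu p M b u, rfl, bu_le hM hmax.1.1 hu, g, fun _ => rfl,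
      hb ▸ bu_le hM hmax.1.1 hu'⟩
  rw [(isNilpotentBlock_iff_inner hM hF).1 hnil] at hmem
  obtain ⟨-, s, hs, hsx⟩ := hmem
  exact ⟨s, hs, (hsx ⟨u, (bu_fst (p := p) (M := M) (b := b) u).symm ▸
    Subgroup.mem_zpowers u⟩).symm.trans hg⟩

theorem isNilpotentBlock_bu {u : G} (hu : u ∈ b.1) : IsNilpotentBlock p M (bu p M b u).2 :=
  isNilpotentBlock_local hM hnil (isBrauerPairOf_bu hM hmax hu)

/-- The defect of a subsection. -/
theorem pow_blockDefect_bu {u : G} (hu : u ∈ b.1) :
    p ^ blockDefect p (bu p M b u).2 =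
      Nat.card (b.1 ⊓ Subgroup.centralizer ({u} : Set G) : Subgroup G) := by
  haveI := Fact.mk hM.1
  haveI := Fintype.ofFinite (Subgroup.centralizer ((bu p M b u).1 : Set G))
  have hD := isDefectGroup_of_nilpotent hM hnil hmax (bu_le hM hmax.1.1 hu)
  rw [← BrauerFeit.card_defectGroup hM (IsPair.of_pairLE hmax.1.1 (bu_le hM hmax.1.1 hu)).2 hD,
    Nat.card_congr (Subgroup.subgroupOfEquivOfLe inf_le_right).toEquiv, centralizer_bu]

end Cfsg.Agent.Lib.NilBlock
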